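import Cfsg.Agent.Lib.KnownA.NilpotentPerm.Transitive

/-!
# Nilpotent subgroups of symmetric and alternating groups
-/

set_option autoImplicit false
set_option linter.style.haveILetI false

namespace CfsgLib.KnownA.NilpotentPerm

open Equiv Subgroup

/-- `N` is contained in `A₃ × R` for a 2-group `R`. -/
def Struct {α : Type} [Finite α] (N : Subgroup (Perm α)) : Prop :=
  ∃ (m : ℕ) (e : α ≃ Fin 3 ⊕ Fin m) (R : Subgroup (Perm (Fin m))), IsPGroup 2 R ∧
    (∀ g ∈ N, ∃ a ∈ alternatingGroup (Fin 3), ∃ r ∈ R, e.permCongr g = Equiv.sumCongr a r) ∧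
    ∀ r ∈ R, ∃ g ∈ N, ∃ a ∈ alternatingGroup (Fin 3), e.permCongr g = Equiv.sumCongr a r

theorem sign_eq_one_of_odd {β : Type} [Fintype β] [DecidableEq β] {P : Subgroup (Perm β)}
    (hodd : Odd (Nat.card P)) {a : Perm β} (ha : a ∈ P) : Perm.sign a = 1 := by
  obtain ⟨k, hk⟩ := hodd
  have h : a ^ (2 * k + 1) = 1 := hk ▸ congrArg Subtype.val (pow_card_eq_one' (x := (⟨a, ha⟩ : P)))
  have h1 := congrArg Perm.sign h
  rw [map_pow, map_one, pow_succ, pow_mul, Int.units_sq, one_pow, one_mul] at h1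
  exact h1

theorem permCongr_trans_sumCongr {α β γ β' γ' : Type} (e : α ≃ β ⊕ γ) (eβ : β ≃ β') (eγ : γ ≃ γ')
    {g : Perm α} {a : Perm β} {r : Perm γ} (h : e.permCongr g = Equiv.sumCongr a r) :
    (e.trans (Equiv.sumCongr eβ eγ)).permCongr g = Equiv.sumCongr (eβ.permCongr a) (eγ.permCongr r) := by
  ext u
  have h' := congrArg (fun σ : Perm (β ⊕ γ) => σ ((Equiv.sumCongr eβ eγ).symm u)) h
  simp only [Equiv.permCongr_apply, Equiv.symm_trans_apply, Equiv.trans_apply] at h' ⊢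
  rw [h']
  rcases u with u | u <;> simp

theorem struct_of {α β γ : Type} [Finite α] [Finite β] [Finite γ] {N : Subgroup (Perm α)}
    {P : Subgroup (Perm β)} {R : Subgroup (Perm γ)} (e : α ≃ β ⊕ γ)
    (hdec : ∀ g ∈ N, ∃ a ∈ P, ∃ r ∈ R, e.permCongr g = Equiv.sumCongr a r)
    (hsurj : ∀ r ∈ R, ∃ g ∈ N, ∃ a ∈ P, e.permCongr g = Equiv.sumCongr a r)
    (hβ : Nat.card β = 3) (hodd : Odd (Nat.card P)) (hR : IsPGroup 2 R) : Struct N := by
  obtain ⟨eβ⟩ : Nonempty (β ≃ Fin 3) := ⟨(Finite.equivFin β).trans (finCongr hβ)⟩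
  let eγ := Finite.equivFin γ
  haveI := Fintype.ofFinite β
  classical
  have hA : ∀ a ∈ P, eβ.permCongr a ∈ alternatingGroup (Fin 3) := fun a ha => by
    rw [Perm.mem_alternatingGroup, Perm.sign_permCongr]
    exact sign_eq_one_of_odd hodd ha
  refine ⟨_, e.trans (Equiv.sumCongr eβ eγ), R.map eγ.permCongrHom.toMonoidHom, hR.map _,
    fun g hg => ?_, ?_⟩
  · obtain ⟨a, ha, r, hr, h⟩ := hdec g hg
    exact ⟨_, hA a ha, _, ⟨r, hr, rfl⟩, permCongr_trans_sumCongr e eβ eγ h⟩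
  · rintro _ ⟨r, hr, rfl⟩
    obtain ⟨g, hg, a, ha, h⟩ := hsurj r hr
    exact ⟨g, hg, _, hA a ha, permCongr_trans_sumCongr e eβ eγ h⟩

theorem f_le_of_eq {n : ℕ} {a : ℕ} (h : a ≤ f n) : a ≤ g n := h.trans (f_le_g n)

/-- Nilpotent permutation groups which are not 2-groups. -/
theorem sym_bound {α : Type} [Finite α] {N : Subgroup (Perm α)} (hN : Group.IsNilpotent N)
    (h2 : ¬ IsPGroup 2 N) :
    (Nat.card α % 4 ≠ 3 → Nat.card N < f (Nat.card α)) ∧
      (Nat.card α % 4 = 3 → Nat.card N ≤ g (Nat.card α) ∧ (Nat.card N = g (Nat.card α) → Struct N)) := by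
  suffices key : ∀ n, ∀ (α : Type) [Finite α], Nat.card α = n → ∀ N : Subgroup (Perm α),
      Group.IsNilpotent N → ¬ IsPGroup 2 N → (n % 4 ≠ 3 → Nat.card N < f n) ∧
        (n % 4 = 3 → Nat.card N ≤ g n ∧ (Nat.card N = g n → Struct N)) from key _ α rfl N hN h2
  intro n
  induction n using Nat.strong_induction_on with
  | _ n ih =>
  intro α _ hn N hN h2
  obtain ⟨β, γ, _, _, P, R, e, hP, ⟨x₀⟩, hP2, hR, hle, -, -, hdec, hsurj⟩ := exists_orbit_split hN h2
  obtain ⟨hlt, -, hP3, -, -, hPodd⟩ := trans_bound hP x₀ hP2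
  haveI : Nonempty β := ⟨x₀⟩
  have hoγ : n = Nat.card β + Nat.card γ := by rw [← hn, Nat.card_congr e, Nat.card_sum]
  have hβpos : 0 < Nat.card β := Nat.card_pos
  have hRle : Nat.card R ≤ g (Nat.card γ) := by
    by_cases hR2 : IsPGroup 2 R
    · exact f_le_of_eq (card_le_f hR2)
    obtain ⟨t1, t2⟩ := ih _ (by omega) γ rfl R hR hR2
    by_cases hm : Nat.card γ % 4 = 3
    exacts [(t2 hm).1, f_le_of_eq (t1 hm).le]
  by_cases h3 : Nat.card β = 3
  · have hP3' := hP3 h3
    have hN3 : Nat.card N ≤ 3 * Nat.card R := hle.trans (Nat.mul_le_mul_right _ hP3')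
    have f3 : f 3 = 2 := f_values.2.1
    rw [h3] at hoγ
    refine ⟨fun hn4 => ?_, fun hn4 => ?_⟩
    · have hf := f_pos (Nat.card γ)
      by_cases hm : Nat.card γ % 4 = 3
      · have h1 := f_carry_two (a := 3) (b := Nat.card γ) (by norm_num) hm
        have h4 := two_mul_g_le (Nat.card γ)
        rw [f3, ← hoγ] at h1
        omega
      · have h1 := f_carry (a := 3) (b := Nat.card γ) (by omega)
        rw [g_of_ne hm] at hRle
        rw [f3, ← hoγ] at h1
        omega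
    · rw [g_of_three hn4, show n - 3 = Nat.card γ by omega]
      rw [g_of_ne (by omega)] at hRle
      refine ⟨by omega, fun heq => struct_of e hdec hsurj h3 (hPodd (Or.inl h3)) ?_⟩
      by_contra hR2
      have := (ih _ (by omega) γ rfl R hR hR2).1 (by omega)
      omega
  · have hlt' : Nat.card N < g n := by
      calc Nat.card N ≤ Nat.card P * g (Nat.card γ) := hle.trans (Nat.mul_le_mul_left _ hRle)
        _ < f (Nat.card β) * g (Nat.card γ) := Nat.mul_lt_mul_of_pos_right (hlt h3) (g_pos _)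
        _ ≤ g (Nat.card β) * g (Nat.card γ) := Nat.mul_le_mul_right _ (f_le_g _)
        _ ≤ g n := hoγ ▸ g_mul_le _ _
    exact ⟨fun h => g_of_ne h ▸ hlt', fun _ => ⟨hlt'.le, fun heq => absurd heq hlt'.ne⟩⟩

theorem card_le_g {α : Type} [Finite α] {N : Subgroup (Perm α)} (hN : Group.IsNilpotent N) :
    Nat.card N ≤ g (Nat.card α) := by
  by_cases h2 : IsPGroup 2 N
  · exact f_le_of_eq (card_le_f h2)
  obtain ⟨t1, t2⟩ := sym_bound hN h2
  by_cases hm : Nat.card α % 4 = 3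
  exacts [(t2 hm).1, f_le_of_eq (t1 hm).le]

theorem two_mul_card_even_two_group {α : Type} [Fintype α] [DecidableEq α] {R : Subgroup (Perm α)}
    (hR : IsPGroup 2 R) (he : ∀ r ∈ R, Perm.sign r = 1) (h2 : 2 ≤ Nat.card α) :
    2 * Nat.card R ≤ f (Nat.card α) := by
  haveI : Nontrivial α := Finite.one_lt_card_iff_nontrivial.1 (by omega)
  haveI : Fact (Nat.Prime 2) := ⟨Nat.prime_two⟩
  obtain ⟨j, hj⟩ := IsPGroup.iff_card.1 hR
  have hdvd : 2 ^ (j + 1) ∣ (Nat.card α).factorial := by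
    rw [pow_succ', ← hj, ← Nat.card_perm, ← two_mul_nat_card_alternatingGroup]
    exact Nat.mul_dvd_mul_left 2 (card_dvd_of_le fun r hr => Perm.mem_alternatingGroup.2 (he r hr))
  rw [hj, ← pow_succ']
  refine Nat.pow_le_pow_right two_pos ?_
  have h := (Nat.factorization_le_iff_dvd (by positivity) (Nat.factorial_ne_zero _)).2 hdvd 2
  rwa [Nat.prime_two.factorization_pow, Finsupp.single_eq_same] at h

/-- Twice the bound for the alternating group. -/
def hb (n : ℕ) : ℕ :=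
  if n = 3 then 6 else if n = 5 then 10 else if n = 6 then 18 else if n = 9 then 162 else g n

theorem g_le_hb (n : ℕ) : g n ≤ hb n := by
  obtain ⟨-, f3, -, f5, f6, -, -, f9, -⟩ := f_values
  unfold hb
  split_ifs with h1 h2 h3 h4
  · subst h1; norm_num [g, f_zero]
  · subst h2; norm_num [g, f5]
  · subst h3; norm_num [g, f6]
  · subst h4; norm_num [g, f9]
  · exact le_rfl

theorem hb_of_regular {n : ℕ} (h3 : n ≠ 3) (h5 : n ≠ 5) (h6 : n ≠ 6) (h9 : n ≠ 9) : hb n = g n := by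
  simp [hb, h3, h5, h6, h9]

/-- Nilpotent groups of even permutations which are not 2-groups. -/
theorem alt_bound {α : Type} [Fintype α] [DecidableEq α] {N : Subgroup (Perm α)}
    (hN : Group.IsNilpotent N) (he : ∀ x ∈ N, Perm.sign x = 1) (h2 : ¬ IsPGroup 2 N) :
    2 * Nat.card N ≤ hb (Nat.card α) ∧
      (Nat.card α % 4 ≠ 3 → Nat.card α ≠ 5 → Nat.card α ≠ 6 → Nat.card α ≠ 9 →
        2 * Nat.card N < f (Nat.card α)) ∧
      (Nat.card α % 4 = 3 → Nat.card α ≠ 3 → 2 * Nat.card N = g (Nat.card α) → Struct N) := by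
  suffices key : ∀ n, ∀ (α : Type) [Fintype α] [DecidableEq α], Nat.card α = n →
      ∀ N : Subgroup (Perm α), Group.IsNilpotent N → (∀ x ∈ N, Perm.sign x = 1) → ¬ IsPGroup 2 N →
      2 * Nat.card N ≤ hb n ∧ (n % 4 ≠ 3 → n ≠ 5 → n ≠ 6 → n ≠ 9 → 2 * Nat.card N < f n) ∧
      (n % 4 = 3 → n ≠ 3 → 2 * Nat.card N = g n → Struct N) from key _ α rfl N hN he h2
  intro n
  induction n using Nat.strong_induction_on with
  | _ n ih =>
  intro α _ _ hn N hN he h2
  obtain ⟨β, γ, _, _, P, R, e, hP, ⟨x₀⟩, hP2, hR, hle, -, -, hdec, hsurj⟩ := exists_orbit_split hN h2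
  obtain ⟨-, hlt2, hP3, hP5, hP9, hPodd⟩ := trans_bound hP x₀ hP2
  haveI : Nonempty β := ⟨x₀⟩
  have hoγ : n = Nat.card β + Nat.card γ := by rw [← hn, Nat.card_congr e, Nat.card_sum]
  have hβpos : 0 < Nat.card β := Nat.card_pos
  by_cases hgen : Nat.card β ≠ 3 ∧ Nat.card β ≠ 5 ∧ Nat.card β ≠ 9
  · have hlt' : 2 * Nat.card N < g n := by
      calc 2 * Nat.card N ≤ 2 * Nat.card P * g (Nat.card γ) := by
            rw [mul_assoc]; exact Nat.mul_le_mul_left _ (hle.trans (Nat.mul_le_mul_left _ (card_le_g hR)))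
        _ < f (Nat.card β) * g (Nat.card γ) :=
            Nat.mul_lt_mul_of_pos_right (hlt2 hgen.1 hgen.2.1 hgen.2.2) (g_pos _)
        _ ≤ g (Nat.card β) * g (Nat.card γ) := Nat.mul_le_mul_right _ (f_le_g _)
        _ ≤ g n := hoγ ▸ g_mul_le _ _
    exact ⟨hlt'.le.trans (g_le_hb n), fun h _ _ _ => g_of_ne h ▸ hlt', fun _ _ e => absurd e hlt'.ne⟩
  have hd : Nat.card β = 3 ∨ Nat.card β = 5 ∨ Nat.card β = 9 := by omega
  haveI := Fintype.ofFinite β
  haveI := Fintype.ofFinite γ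
  classical
  have hReven : ∀ r ∈ R, Perm.sign r = 1 := by
    intro r hr
    obtain ⟨x, hx, a, ha, h⟩ := hsurj r hr
    have := congrArg Perm.sign h
    rwa [Perm.sign_permCongr, he x hx, Perm.sign_sumCongr, sign_eq_one_of_odd (hPodd hd) ha,
      one_mul, eq_comm] at this
  by_cases hm1 : Nat.card γ ≤ 1
  · have hR1 := card_eq_one_of_one (P := R) hm1
    rw [hR1, mul_one] at hle
    obtain ⟨-, -, f4, f5, f6, -, -, -, f10, -⟩ := f_values
    rcases hd with hd | hd | hd <;>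
      (have hPle := by first | exact hP3 hd | exact hP5 hd | exact hP9 hd
       rcases Nat.le_one_iff_eq_zero_or_eq_one.1 hm1 with hm | hm <;>
         (rw [hd, hm] at hoγ; rw [hoγ]; generalize Nat.card N = X at hle ⊢
          norm_num [hb, g, f4, f5, f6, f10, f_zero]; omega))
  have hX : 2 * Nat.card R ≤ hb (Nat.card γ) ∧ (Nat.card γ % 4 = 0 →
      2 * Nat.card R = f (Nat.card γ) → IsPGroup 2 R) := by
    by_cases hR2 : IsPGroup 2 R
    · exact ⟨(two_mul_card_even_two_group hR2 hReven (by omega)).trans ((f_le_g _).trans (g_le_hb _)),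
        fun _ _ => hR2⟩
    obtain ⟨t1, t2, -⟩ := ih _ (by omega) γ rfl R hR hReven hR2
    exact ⟨t1, fun h0 h => absurd h (t2 (by omega) (by omega) (by omega) (by omega)).ne⟩
  by_cases hex : Nat.card γ = 3 ∨ Nat.card γ = 5 ∨ Nat.card γ = 6 ∨ Nat.card γ = 9
  · obtain ⟨-, -, -, -, f6, -, f8, f9, f10, f11, f12, -, f14, f15, f18⟩ := f_values
    obtain ⟨hX, -⟩ := hX
    rcases hd with hd | hd | hd <;>
      (have hPle := by first | exact hP3 hd | exact hP5 hd | exact hP9 hd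
       have hN2 : 2 * Nat.card N ≤ Nat.card P * (2 * Nat.card R) := by rw [mul_left_comm]; exact Nat.mul_le_mul_left _ hle
       rcases hex with hm | hm | hm | hm <;>
         (rw [hm] at hX
          have h := hN2.trans (Nat.mul_le_mul hPle hX)
          rw [hd, hm] at hoγ; rw [hoγ]; generalize Nat.card N = X at h ⊢
          norm_num [hb] at h
          norm_num [hb, g, f6, f8, f9, f10, f11, f12, f14, f15, f18]; omega))
  obtain ⟨hX, hXeq⟩ := hX
  rw [hb_of_regular (by omega) (by omega) (by omega) (by omega)] at hX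
  have hN2 : ∀ c, Nat.card P ≤ c → 2 * Nat.card N ≤ c * g (Nat.card γ) := fun c hc => by
    refine le_trans ?_ (Nat.mul_le_mul hc hX)
    rw [mul_left_comm]; exact Nat.mul_le_mul_left _ hle
  have hf := f_pos (Nat.card γ)
  have hfn := f_le_g n
  have hgn := g_le_hb n
  by_cases h3 : Nat.card β = 3
  · have hN3 := hN2 3 (hP3 h3)
    have f3 : f 3 = 2 := f_values.2.1
    rw [h3] at hoγ
    by_cases hm3 : Nat.card γ % 4 = 3
    · have h1 := f_carry_two (a := 3) (b := Nat.card γ) (by norm_num) hm3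
      have h4 := two_mul_g_le (Nat.card γ)
      rw [f3, ← hoγ] at h1
      exact ⟨by omega, fun _ _ _ _ => by omega, fun h => by omega⟩
    rw [g_of_ne hm3] at hN3 hX
    by_cases hm0 : Nat.card γ % 4 = 0
    · have hg : g n = 3 * f (Nat.card γ) := by
        rw [g_of_three (by omega), show n - 3 = Nat.card γ by omega]
      refine ⟨by omega, fun h => by omega, fun _ _ heq => struct_of e hdec hsurj h3 (hPodd hd) ?_⟩
      refine hXeq hm0 (le_antisymm hX ?_)
      have hP3' := hP3 h3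
      have : Nat.card N ≤ 3 * Nat.card R := hle.trans (Nat.mul_le_mul_right _ hP3')
      omega
    · have h1 := f_carry (a := 3) (b := Nat.card γ) (by omega)
      rw [f3, ← hoγ] at h1
      exact ⟨by omega, fun _ _ _ _ => by omega, fun h => by omega⟩
  obtain ⟨c, F, hF, hc, hcF⟩ : ∃ c F, f (Nat.card β) = F ∧ Nat.card P ≤ c ∧ 0 < c ∧ 16 * c ≤ 11 * F := by
    rcases hd with hd | hd | hd
    · exact absurd hd h3
    · exact ⟨5, 8, hd ▸ f_values.2.2.2.1, hP5 hd, by norm_num, by norm_num⟩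
    · exact ⟨81, 128, hd ▸ f_values.2.2.2.2.2.2.2.1, hP9 hd, by norm_num, by norm_num⟩
  have hN3 := hN2 c hc
  have hlt' : 2 * Nat.card N < f n := by
    have hFp : 0 < F := hF ▸ f_pos _
    by_cases hm3 : Nat.card γ % 4 = 3
    · have h1 := f_odd_add (a := Nat.card β) (b := Nat.card γ) (by omega) (by omega)
      have h4 := two_mul_g_le (Nat.card γ)
      rw [hF, ← hoγ] at h1
      have h5 : 16 * (2 * (c * g (Nat.card γ))) ≤ 33 * (F * f (Nat.card γ)) := by
        calc 16 * (2 * (c * g (Nat.card γ))) = 16 * c * (2 * g (Nat.card γ)) := by ring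
          _ ≤ 11 * F * (3 * f (Nat.card γ)) := Nat.mul_le_mul hcF.2 h4
          _ = _ := by ring
      have h6 : 0 < F * f (Nat.card γ) := Nat.mul_pos hFp hf
      omega
    · have h1 := f_mul_le (Nat.card β) (Nat.card γ)
      rw [hF, ← hoγ] at h1
      rw [g_of_ne hm3] at hN3
      have h5 : 16 * (c * f (Nat.card γ)) ≤ 11 * (F * f (Nat.card γ)) := by
        rw [← mul_assoc, ← mul_assoc]; exact Nat.mul_le_mul_right _ hcF.2
      have h6 : 0 < F * f (Nat.card γ) := Nat.mul_pos hFp hf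
      omega
  exact ⟨by omega, fun _ _ _ _ => hlt', fun _ _ heq => absurd heq (by omega)⟩

end CfsgLib.KnownA.NilpotentPerm
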