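import Mathlib
import Cfsg.Agent.Lib.Base.Fitting
import Cfsg.Agent.Lib.Base.Cores

/-!
# Decompositions of nilpotent permutation groups
-/

set_option autoImplicit false
set_option linter.style.haveILetI false
set_option linter.unusedSectionVars false

namespace CfsgLib.KnownA.NilpotentPerm

open Equiv Subgroup MulAction

variable {α : Type} [Finite α]

/-- A transitive nilpotent permutation group. -/
structure NilTrans (N : Subgroup (Perm α)) : Prop where
  nil : Group.IsNilpotent N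
  trans : ∀ x y : α, ∃ g ∈ N, g x = y

theorem isNilpotent_range {H K : Type*} [Group H] [Group K] [Group.IsNilpotent H] (f : H →* K) :
    Group.IsNilpotent f.range :=
  Group.nilpotent_of_surjective f.rangeRestrict f.rangeRestrict_surjective

/-- A centraliser permutes the orbits. -/
def orbitPerm (K : Subgroup (Perm α)) :
    centralizer (K : Set (Perm α)) →* Perm (orbitRel.Quotient K α) where
  toFun g := Quotient.congr (g : Perm α) fun a b => by
    simp only [orbitRel_apply, MulAction.mem_orbit_iff]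
    have hg : ∀ k : K, ∀ z, (k : Perm α) ((g : Perm α) z) = (g : Perm α) ((k : Perm α) z) := fun k z =>
      congrArg (fun σ : Perm α => σ z) (mem_centralizer_iff.1 g.2 k k.2)
    refine ⟨fun ⟨k, hk⟩ => ⟨k, ?_⟩, fun ⟨k, hk⟩ => ⟨k, (g : Perm α).injective ?_⟩⟩
    · exact (hg k b).trans (congrArg _ hk)
    · exact (hg k b).symm.trans hk
  map_one' := Equiv.ext fun ω => by induction ω using Quotient.inductionOn; rfl
  map_mul' g h := Equiv.ext fun ω => by induction ω using Quotient.inductionOn; rfl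

theorem orbitPerm_mk (K : Subgroup (Perm α)) (g : centralizer (K : Set (Perm α))) (x : α) :
    orbitPerm K g (Quotient.mk'' x) = Quotient.mk'' ((g : Perm α) x) := rfl

theorem card_dvd_of_trans {β : Type} [Finite β] {P : Subgroup (Perm β)}
    (h : ∀ x y : β, ∃ g ∈ P, g x = y) (x : β) : Nat.card β ∣ Nat.card P := by
  have hu : orbit P x = Set.univ := Set.eq_univ_of_forall fun y => by
    obtain ⟨g, hg, e⟩ := h x y; exact ⟨⟨g, hg⟩, e⟩
  rw [← Set.ncard_univ, ← hu, ← index_stabilizer]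
  exact index_dvd_card _

theorem card_eq_mul {N K : Subgroup (Perm α)} (hNK : N ≤ centralizer (K : Set (Perm α)))
    (x₀ : α) (h : ∀ y : α, ∃ g ∈ N, y ∈ orbit K (g x₀)) :
    Nat.card α = Nat.card (orbitRel.Quotient K α) * Nat.card (orbit K x₀) := by
  haveI : Fintype (orbitRel.Quotient K α) := Fintype.ofFinite _
  haveI : Fintype (orbit K x₀) := Fintype.ofFinite _
  rw [Nat.card_congr (MulAction.selfEquivSigmaOrbits' K α), Nat.card_sigma,
    Finset.sum_congr rfl (g := fun _ => Nat.card (orbit K x₀)) ?_, Finset.sum_const, Finset.card_univ,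
    smul_eq_mul, ← Nat.card_eq_fintype_card]
  intro ω _
  induction ω using Quotient.inductionOn' with
  | _ y =>
  rw [orbitRel.Quotient.orbit_mk]
  obtain ⟨g, hg, hy⟩ := h y
  rw [MulAction.orbit_eq_iff.2 hy]
  have hgk : ∀ k : K, (k : Perm α) (g x₀) = g ((k : Perm α) x₀) := fun k =>
    congrArg (fun σ : Perm α => σ x₀) (mem_centralizer_iff.1 (hNK hg) k k.2)
  refine (Nat.card_congr (Equiv.subtypeEquiv g fun z => ?_)).symm
  constructor
  · rintro ⟨k, rfl⟩; exact ⟨k, hgk k⟩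
  · rintro ⟨k, hk⟩; exact ⟨k, g.injective ((hgk k).symm.trans hk)⟩

/-- A nilpotent group is the product of its Sylow `p`-subgroup and its `p'`-part. -/
theorem exists_parts {N : Subgroup (Perm α)} (hN : Group.IsNilpotent N) (p : ℕ) [Fact p.Prime] :
    ∃ P Q : Subgroup (Perm α), Group.IsNilpotent P ∧ Group.IsNilpotent Q ∧ P ≤ N ∧ Q ≤ N ∧
      P ≤ centralizer (Q : Set (Perm α)) ∧ IsPGroup p P ∧ (Nat.card Q).Coprime p ∧
      Nat.card N = Nat.card P * Nat.card Q ∧ ∀ g ∈ N, ∃ a ∈ P, ∃ b ∈ Q, g = a * b := by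
  haveI := hN
  obtain ⟨P₀⟩ : Nonempty (Sylow p N) := inferInstance
  set Q₀ := Cfsg.pPrimeCore p N with hQ₀
  have hcop : (Nat.card Q₀).Coprime p := CfsgLib.Base.pPrimeCore_coprime p N
  obtain ⟨k, hk⟩ : ∃ k, Q₀.index = p ^ k := by
    refine ⟨_, Nat.eq_prime_pow_of_unique_prime_dvd index_ne_zero_of_finite fun {r} hr hd => ?_⟩
    by_contra hrp
    haveI := Fact.mk hr
    obtain ⟨R⟩ : Nonempty (Sylow r N) := inferInstance
    haveI : (R : Subgroup N).Normal := R.normal_of_normalizerCondition Group.normalizerCondition_of_isNilpotent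
    obtain ⟨j, hj⟩ := IsPGroup.iff_card.1 R.isPGroup'
    have hle : (R : Subgroup N) ≤ Q₀ := CfsgLib.Base.le_pPrimeCore
      (by rw [hj]; exact ((Nat.coprime_primes hr (Fact.out : p.Prime)).2 hrp).pow_left j)
    exact R.not_dvd_index (hd.trans (index_dvd_of_le hle))
  have hcard : Nat.card P₀ * Nat.card Q₀ = Nat.card N := by
    have h1 := card_mul_index Q₀
    rw [P₀.card_eq_multiplicity, ← h1, Nat.factorization_mul Nat.card_pos.ne' (by simp [hk, (Fact.out : p.Prime).ne_zero]),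
      Finsupp.add_apply, Nat.factorization_eq_zero_of_not_dvd, hk, Nat.Prime.factorization_pow Fact.out,
      Finsupp.single_eq_same, zero_add, mul_comm]
    exact (Fact.out : p.Prime).coprime_iff_not_dvd.1 hcop.symm
  have hcopP : (Nat.card P₀).Coprime (Nat.card Q₀) := by
    obtain ⟨j, hj⟩ := IsPGroup.iff_card.1 P₀.isPGroup'
    rw [hj]; exact hcop.symm.pow_left j
  haveI : (P₀ : Subgroup N).Normal := P₀.normal_of_normalizerCondition Group.normalizerCondition_of_isNilpotent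
  refine ⟨(P₀ : Subgroup N).map N.subtype, Q₀.map N.subtype,
    CfsgLib.Base.isNilpotent_map _ inferInstance, CfsgLib.Base.isNilpotent_map _ inferInstance,
    map_subtype_le _, map_subtype_le _, ?_, P₀.isPGroup'.map _, ?_, ?_, ?_⟩
  · rintro _ ⟨a, ha, rfl⟩
    refine mem_centralizer_iff.2 ?_
    rintro _ ⟨b, hb, rfl⟩
    exact congrArg N.subtype (commute_of_normal_of_disjoint _ _ inferInstance inferInstance
      (disjoint_iff.2 (inf_eq_bot_of_coprime hcopP)) a b ha hb).eq.symm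
  · rwa [card_map_of_injective N.subtype_injective]
  · rw [card_map_of_injective N.subtype_injective, card_map_of_injective N.subtype_injective]
    exact hcard.symm
  · intro g hg
    obtain ⟨⟨a, b⟩, hab⟩ := (isComplement'_of_coprime hcard hcopP).2 ⟨g, hg⟩
    exact ⟨_, ⟨a, a.2, rfl⟩, _, ⟨b, b.2, rfl⟩, (congrArg N.subtype hab).symm⟩

/-- A transitive nilpotent group splits as a product action at each prime. -/
theorem exists_split {N : Subgroup (Perm α)} (hN : NilTrans N) (x₀ : α) (p : ℕ) [Fact p.Prime] :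
    ∃ (β γ : Type) (_ : Finite β) (_ : Finite γ) (P : Subgroup (Perm β)) (Q : Subgroup (Perm γ)),
      NilTrans P ∧ NilTrans Q ∧ IsPGroup p P ∧ (Nat.card Q).Coprime p ∧
      Nat.card N = Nat.card P * Nat.card Q ∧ Nat.card α = Nat.card β * Nat.card γ ∧
      Nonempty β ∧ Nonempty γ := by
  obtain ⟨P, Q, hPn, hQn, hPN, hQN, hPQ, hP, hQ, hcard, hgen⟩ := exists_parts hN.nil p
  have hNQ : ∀ g ∈ N, ∀ x, ∃ a ∈ P, ∃ b ∈ Q, g x = a (b x) := fun g hg x => by
    obtain ⟨a, ha, b, hb, rfl⟩ := hgen g hg; exact ⟨a, ha, b, hb, rfl⟩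
  let φ : P →* Perm (orbitRel.Quotient Q α) := (orbitPerm Q).comp (inclusion hPQ)
  have hφ : Function.Injective φ := by
    refine (injective_iff_map_eq_one φ).2 fun a ha => ?_
    have hfix : ∀ x, (a : Perm α) x ∈ orbit Q x := fun x => by
      have h := congrArg (fun σ : Perm _ => σ (Quotient.mk'' x : orbitRel.Quotient Q α)) ha
      exact (orbitRel_apply).1 (Quotient.eq''.1 h)
    have hpow : (a : Perm α) ^ Nat.card Q = 1 := by
      ext x
      obtain ⟨q, hq⟩ := hfix x
      have hc : Commute (a : Perm α) (q : Perm α) := ((mem_centralizer_iff.1 (hPQ a.2)) q q.2).symm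
      have key : ∀ k : ℕ, ((a : Perm α) ^ k) x = ((q : Perm α) ^ k) x := by
        intro k
        induction k with
        | zero => rfl
        | succ k ih =>
          calc ((a : Perm α) ^ (k + 1)) x = (a : Perm α) (((a : Perm α) ^ k) x) := by
                rw [pow_succ']; rfl
            _ = ((a : Perm α) * (q : Perm α) ^ k) x := by rw [ih]; rfl
            _ = ((q : Perm α) ^ k * (a : Perm α)) x := by rw [(hc.pow_right k).eq]
            _ = ((q : Perm α) ^ k) ((q : Perm α) x) := congrArg _ hq.symm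
            _ = ((q : Perm α) ^ (k + 1)) x := by rw [pow_succ]; rfl
      rw [key, ← SubgroupClass.coe_pow, pow_card_eq_one']
      rfl
    have h1 : orderOf a ∣ Nat.card Q := by
      rw [← orderOf_coe]; exact orderOf_dvd_of_pow_eq_one hpow
    obtain ⟨j, hj⟩ := IsPGroup.iff_card.1 hP
    exact orderOf_eq_one_iff.1 (Nat.eq_one_of_dvd_coprimes (hQ.pow_right j) h1 (hj ▸ orderOf_dvd_natCard a))
  let ψ : Q →* Perm (orbit Q x₀) := MulAction.toPermHom Q (orbit Q x₀)
  have hψ : Function.Injective ψ := by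
    refine (injective_iff_map_eq_one ψ).2 fun b hb => ?_
    have h0 : ∀ y ∈ orbit Q x₀, (b : Perm α) y = y := fun y hy =>
      congrArg Subtype.val (congrArg (fun σ : Perm (orbit Q x₀) => σ ⟨y, hy⟩) hb)
    refine Subtype.ext (Equiv.ext fun y => ?_)
    obtain ⟨g, hg, rfl⟩ := hN.trans x₀ y
    obtain ⟨a, ha, b', hb', e⟩ := hNQ g hg x₀
    rw [e]
    calc (b : Perm α) (a (b' x₀)) = a ((b : Perm α) (b' x₀)) :=
          congrArg (fun σ : Perm α => σ (b' x₀)) (mem_centralizer_iff.1 (hPQ ha) b b.2)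
      _ = a (b' x₀) := congrArg a (h0 _ ⟨⟨b', hb'⟩, rfl⟩)
      _ = _ := rfl
  haveI := hPn
  haveI := hQn
  refine ⟨_, _, inferInstance, inferInstance, φ.range, ψ.range, ⟨isNilpotent_range _, ?_⟩,
    ⟨isNilpotent_range _, ?_⟩, hP.of_surjective _ φ.rangeRestrict_surjective, ?_, ?_, ?_,
    ⟨Quotient.mk'' x₀⟩, ⟨⟨x₀, mem_orbit_self x₀⟩⟩⟩
  · intro u w
    induction u using Quotient.inductionOn' with
    | _ u =>
    induction w using Quotient.inductionOn' with
    | _ w =>
    obtain ⟨g, hg, rfl⟩ := hN.trans u w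
    obtain ⟨a, ha, b, hb, e⟩ := hNQ g hg u
    refine ⟨φ ⟨a, ha⟩, ⟨_, rfl⟩, ?_⟩
    rw [e]
    refine Quotient.eq''.2 ((orbitRel_apply).2 ⟨⟨b, hb⟩⁻¹, ?_⟩)
    show b⁻¹ (a (b u)) = a u
    calc b⁻¹ (a (b u)) = b⁻¹ (b (a u)) := by
          rw [show a (b u) = b (a u) from congrArg (fun σ : Perm α => σ u) (mem_centralizer_iff.1 (hPQ ha) b hb).symm]
      _ = a u := by simp
  · rintro ⟨u, q, rfl⟩ ⟨w, q', rfl⟩
    exact ⟨ψ (q' * q⁻¹), ⟨_, rfl⟩, Subtype.ext (by simp [ψ, mul_smul])⟩
  · rwa [← Nat.card_congr (MonoidHom.ofInjective hψ).toEquiv]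
  · rwa [← Nat.card_congr (MonoidHom.ofInjective hφ).toEquiv, ← Nat.card_congr (MonoidHom.ofInjective hψ).toEquiv]
  · refine card_eq_mul (K := Q) hPQ x₀ fun y => ?_
    obtain ⟨g, hg, rfl⟩ := hN.trans x₀ y
    obtain ⟨a, ha, b, hb, e⟩ := hNQ g hg x₀
    refine ⟨a, ha, ⟨b, hb⟩, ?_⟩
    rw [e]
    exact congrArg (fun σ : Perm α => σ x₀) (mem_centralizer_iff.1 (hPQ ha) b hb)

/-- A central element of prime order in a transitive group. -/
theorem exists_central_step {N : Subgroup (Perm α)} (hN : NilTrans N) (x₀ : α) (hne : N ≠ ⊥) :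
    ∃ (p : ℕ) (β : Type) (_ : Finite β) (_ : Nonempty β) (I : Subgroup (Perm β)), p.Prime ∧
      p ∣ Nat.card N ∧ NilTrans I ∧ Nat.card I ∣ Nat.card N ∧ Nat.card α = p * Nat.card β ∧
      Nat.card N ≤ p ^ Nat.card β * Nat.card I := by
  haveI := hN.nil
  haveI : Nontrivial N := (nontrivial_iff_ne_bot _).2 hne
  have hZ : center N ≠ ⊥ := Group.IsNilpotent.center_ne_bot N
  have hlt : Nat.card (center N) ≠ 1 := fun e => hZ (card_eq_one.1 e)
  obtain ⟨p, hp, hd⟩ := Nat.exists_prime_and_dvd hlt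
  haveI := Fact.mk hp
  obtain ⟨z, hz⟩ := exists_prime_orderOf_dvd_card' p hd
  set zα : Perm α := ((z : N) : Perm α) with hzα
  set K := zpowers zα with hKdef
  have hKcard : Nat.card K = p := by rw [hKdef, Nat.card_zpowers, orderOf_coe, orderOf_coe, hz]
  have hNK : N ≤ centralizer (K : Set (Perm α)) := fun g hg => mem_centralizer_iff.2 fun k hk => by
    obtain ⟨i, rfl⟩ := mem_zpowers_iff.1 hk
    exact ((show Commute zα g from (congrArg Subtype.val (mem_center_iff.1 z.2 ⟨g, hg⟩) : _).symm).zpow_left i).eq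
  have hfree : ∀ k ∈ K, ∀ x, k x = x → k = 1 := fun k hk x hx => by
    ext y
    obtain ⟨g, hg, rfl⟩ := hN.trans x y
    rw [show k (g x) = g (k x) from congrArg (fun σ : Perm α => σ x) (mem_centralizer_iff.1 (hNK hg) k hk), hx]
    rfl
  have horb : ∀ x : α, Nat.card (orbit K x) = p := fun x => by
    rw [← hKcard]
    refine (Nat.card_congr (Equiv.ofBijective (fun k : K => (⟨k • x, k, rfl⟩ : orbit K x)) ⟨?_, ?_⟩)).symm
    · intro k k' e
      have e' : (k : Perm α) x = (k' : Perm α) x := congrArg Subtype.val e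
      have := hfree ((k' : Perm α)⁻¹ * k) (mul_mem (inv_mem k'.2) k.2) x (by simp [e'])
      exact Subtype.ext (inv_mul_eq_one.1 this).symm
    · rintro ⟨_, k, rfl⟩; exact ⟨k, rfl⟩
  let φ : N →* Perm (orbitRel.Quotient K α) := (orbitPerm K).comp (inclusion hNK)
  have hα : Nat.card α = p * Nat.card (orbitRel.Quotient K α) := by
    rw [card_eq_mul hNK x₀ (fun y => let ⟨g, hg, e⟩ := hN.trans x₀ y; ⟨g, hg, e ▸ mem_orbit_self _⟩),
      horb, mul_comm]
  have hker : Nat.card φ.ker ≤ p ^ Nat.card (orbitRel.Quotient K α) := by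
    haveI : Fintype (orbitRel.Quotient K α) := Fintype.ofFinite _
    have hmem : ∀ (g : φ.ker) (ω : orbitRel.Quotient K α),
        ((g : N) : Perm α) ω.out ∈ orbit K ω.out := fun g ω => by
      have h := congrArg (fun σ : Perm _ => σ (Quotient.mk'' ω.out : orbitRel.Quotient K α)) g.2
      exact (orbitRel_apply).1 (Quotient.eq''.1 h)
    let F : φ.ker → ∀ ω : orbitRel.Quotient K α, orbit K ω.out := fun g ω => ⟨_, hmem g ω⟩
    have hF : Function.Injective F := by
      intro g g' e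
      refine Subtype.ext (Subtype.ext (Equiv.ext fun y => ?_))
      obtain ⟨ω, hy⟩ : ∃ ω : orbitRel.Quotient K α, y ∈ orbit K ω.out :=
        ⟨Quotient.mk'' y, (orbitRel_apply).1 (Quotient.eq''.1 (Quotient.out_eq' _).symm)⟩
      obtain ⟨k, rfl⟩ := hy
      have hg : ∀ g : N, (g : Perm α) ((k : Perm α) ω.out) = (k : Perm α) ((g : Perm α) ω.out) :=
        fun g => congrArg (fun σ : Perm α => σ ω.out) (mem_centralizer_iff.1 (hNK g.2) k k.2).symm
      exact ((hg g).trans (congrArg (fun z => (k : Perm α) z) (congrArg Subtype.val (congrFun e ω)))).trans (hg g').symm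
    refine (Nat.card_le_card_of_injective F hF).trans ?_
    rw [Nat.card_pi, Finset.prod_congr rfl (g := fun _ => p) fun ω _ => horb _, Finset.prod_const,
      Finset.card_univ, Nat.card_eq_fintype_card]
  refine ⟨p, _, inferInstance, ⟨Quotient.mk'' x₀⟩, φ.range, hp, ?_, ⟨isNilpotent_range _, ?_⟩, card_range_dvd φ, hα, ?_⟩
  · exact hd.trans (card_subgroup_dvd_card _)
  · intro u w
    induction u using Quotient.inductionOn' with
    | _ u =>
    induction w using Quotient.inductionOn' with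
    | _ w =>
    obtain ⟨g, hg, rfl⟩ := hN.trans u w
    exact ⟨φ ⟨g, hg⟩, ⟨_, rfl⟩, rfl⟩
  · have h := card_mul_index φ.ker
    rw [index_ker] at h
    rw [← h]
    exact Nat.mul_le_mul_right _ hker

/-- A nilpotent group which is not a 2-group has an orbit with the same property. -/
theorem exists_orbit_split {N : Subgroup (Perm α)} (hN : Group.IsNilpotent N) (h2 : ¬ IsPGroup 2 N) :
    ∃ (β γ : Type) (_ : Finite β) (_ : Finite γ) (P : Subgroup (Perm β)) (R : Subgroup (Perm γ))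
      (e : α ≃ β ⊕ γ), NilTrans P ∧ Nonempty β ∧ ¬ IsPGroup 2 P ∧ Group.IsNilpotent R ∧
      Nat.card N ≤ Nat.card P * Nat.card R ∧ Nat.card P ∣ Nat.card N ∧ Nat.card R ∣ Nat.card N ∧
      (∀ g ∈ N, ∃ a ∈ P, ∃ r ∈ R, e.permCongr g = Equiv.sumCongr a r) ∧
      ∀ r ∈ R, ∃ g ∈ N, ∃ a ∈ P, e.permCongr g = Equiv.sumCongr a r := by
  classical
  haveI := hN
  obtain ⟨q, hq1, hqodd⟩ : ∃ q : N, q ≠ 1 ∧ Odd (orderOf q) := by
    obtain ⟨r, hr, hrd, hr2⟩ : ∃ r, r.Prime ∧ r ∣ Nat.card N ∧ r ≠ 2 := by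
      by_contra hne
      push Not at hne
      exact h2 (IsPGroup.of_card (Nat.eq_prime_pow_of_unique_prime_dvd Nat.card_pos.ne' fun {d} hd hdd => hne d hd hdd))
    haveI := Fact.mk hr
    obtain ⟨q, hq⟩ := exists_prime_orderOf_dvd_card' r hrd
    exact ⟨q, fun e => hr.one_lt.ne' (by rw [← hq, e, orderOf_one]), hq ▸ hr.odd_of_ne_two hr2⟩
  obtain ⟨x, hx⟩ : ∃ x, (q : Perm α) x ≠ x := by
    by_contra hne
    push Not at hne
    exact hq1 (Subtype.ext (Equiv.ext hne))
  let s : α → Prop := fun y => y ∈ orbit N x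
  have hs : ∀ g ∈ N, ∀ y, s (g y) ↔ s y := fun g hg y => by
    constructor
    · rintro ⟨k, hk⟩; exact ⟨(⟨g, hg⟩ : N)⁻¹ * k, by simp only [mul_smul]; rw [show k • x = g y from hk]; exact g.symm_apply_apply y⟩
    · rintro ⟨k, hk⟩; exact ⟨(⟨g, hg⟩ : N) * k, by simp only [mul_smul]; rw [show k • x = y from hk]; rfl⟩
  let φ : N →* Perm {y // s y} :=
    { toFun := fun g => (g : Perm α).subtypePerm fun y => hs g g.2 y
      map_one' := Equiv.ext fun _ => rfl
      map_mul' := fun _ _ => Equiv.ext fun _ => rfl }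
  let ψ : N →* Perm {y // ¬ s y} :=
    { toFun := fun g => (g : Perm α).subtypePerm fun y => not_congr (hs g g.2 y)
      map_one' := Equiv.ext fun _ => rfl
      map_mul' := fun _ _ => Equiv.ext fun _ => rfl }
  let e : α ≃ {y // s y} ⊕ {y // ¬ s y} := (Equiv.sumCompl s).symm
  have hkey : ∀ g : N, e.permCongr (g : Perm α) = Equiv.sumCongr (φ g) (ψ g) := by
    intro g
    ext u
    rcases u with u | u
    · exact Equiv.sumCompl_symm_apply_of_pos ((hs g g.2 u).2 u.2)
    · exact Equiv.sumCompl_symm_apply_of_neg fun h => u.2 ((hs g g.2 u).1 h)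
  refine ⟨_, _, inferInstance, inferInstance, φ.range, ψ.range, e, ⟨isNilpotent_range _, ?_⟩,
    ⟨⟨x, mem_orbit_self x⟩⟩, ?_, isNilpotent_range _, ?_, card_range_dvd φ, card_range_dvd ψ,
    fun g hg => ⟨_, ⟨⟨g, hg⟩, rfl⟩, _, ⟨⟨g, hg⟩, rfl⟩, hkey ⟨g, hg⟩⟩, ?_⟩
  · rintro ⟨u, k, rfl⟩ ⟨w, k', rfl⟩
    exact ⟨φ (k' * k⁻¹), ⟨_, rfl⟩, Subtype.ext (by
      show ((k' * k⁻¹ : N) : Perm α) ((k : Perm α) x) = (k' : Perm α) x
      simp)⟩
  · intro hP
    have hφq : φ q ≠ 1 := fun e' => hx (congrArg Subtype.val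
      (congrArg (fun σ : Perm {y // s y} => σ ⟨x, mem_orbit_self x⟩) e'))
    obtain ⟨j, hj⟩ := hP ⟨φ q, q, rfl⟩
    have h1 : orderOf (φ q) ∣ 2 ^ j := orderOf_dvd_of_pow_eq_one (congrArg Subtype.val hj)
    exact hφq (orderOf_eq_one_iff.1 (Nat.eq_one_of_dvd_coprimes
      ((Nat.coprime_two_right.2 hqodd).pow_right j) (orderOf_map_dvd φ q) h1))
  · rw [← Nat.card_prod]
    refine Nat.card_le_card_of_injective (fun g => (φ.rangeRestrict g, ψ.rangeRestrict g)) fun g g' h => ?_
    have h1 : φ g = φ g' := congrArg Subtype.val (congrArg Prod.fst h)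
    have h2 : ψ g = ψ g' := congrArg Subtype.val (congrArg Prod.snd h)
    exact Subtype.ext (e.permCongr.injective (by rw [hkey, hkey, h1, h2]))
  · rintro _ ⟨g, rfl⟩
    exact ⟨g, g.2, _, ⟨g, rfl⟩, hkey g⟩

end CfsgLib.KnownA.NilpotentPerm
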