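import Cfsg.Agent.Lib.KnownA.NilpotentPerm.Bounds

/-!
# The extremal nilpotent subgroups
-/

set_option autoImplicit false
set_option linter.style.haveILetI false

namespace CfsgLib.KnownA.NilpotentPerm

open Equiv Subgroup

theorem card_sylow_sym (m : ℕ) (P : Sylow 2 (Perm (Fin m))) : Nat.card P = f m := by
  haveI : Fact (Nat.Prime 2) := ⟨Nat.prime_two⟩
  rw [P.card_eq_multiplicity, Nat.card_perm, Nat.card_fin]
  rfl

theorem card_sylow_alt {m : ℕ} (hm : 2 ≤ m) (P : Sylow 2 (alternatingGroup (Fin m))) :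
    2 * Nat.card P = f m := by
  haveI : Fact (Nat.Prime 2) := ⟨Nat.prime_two⟩
  haveI : Nontrivial (Fin m) := Fin.nontrivial_iff_two_le.2 hm
  have h := two_mul_nat_card_alternatingGroup (α := Fin m)
  rw [Nat.card_perm, Nat.card_fin] at h
  rw [P.card_eq_multiplicity, f, v, ← h, Nat.factorization_mul two_ne_zero Nat.card_pos.ne',
    Finsupp.add_apply, Nat.prime_two.factorization_self, Nat.add_comm, pow_succ']

theorem card_alt_three : Nat.card (alternatingGroup (Fin 3)) = 3 := by
  have h := two_mul_nat_card_alternatingGroup (α := Fin 3)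
  rw [Nat.card_perm, Nat.card_fin, show Nat.factorial 3 = 6 from rfl] at h
  omega

/-- The model subgroup `A₃ × R`. -/
def model {m : ℕ} (R : Subgroup (Perm (Fin m))) : Subgroup (Perm (Fin 3 ⊕ Fin m)) :=
  ((alternatingGroup (Fin 3)).prod R).map (Perm.sumCongrHom (Fin 3) (Fin m))

theorem card_model {m : ℕ} (R : Subgroup (Perm (Fin m))) : Nat.card (model R) = 3 * Nat.card R := by
  rw [model, card_map_of_injective Perm.sumCongrHom_injective,
    Nat.card_congr (prodEquiv _ R).toEquiv, Nat.card_prod, card_alt_three]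

theorem map_le_model {α : Type} [Finite α] {N : Subgroup (Perm α)} {m : ℕ} {e : α ≃ Fin 3 ⊕ Fin m}
    {R : Subgroup (Perm (Fin m))}
    (hdec : ∀ x ∈ N, ∃ a ∈ alternatingGroup (Fin 3), ∃ r ∈ R, e.permCongr x = Equiv.sumCongr a r) :
    N.map e.permCongrHom.toMonoidHom ≤ model R := by
  rintro _ ⟨x, hx, rfl⟩
  obtain ⟨a, ha, r, hr, h⟩ := hdec x hx
  exact ⟨(a, r), mem_prod.2 ⟨ha, hr⟩, h.symm⟩

theorem map_eq_model {α : Type} [Finite α] {N : Subgroup (Perm α)} {m : ℕ} {e : α ≃ Fin 3 ⊕ Fin m}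
    {R : Subgroup (Perm (Fin m))}
    (hdec : ∀ x ∈ N, ∃ a ∈ alternatingGroup (Fin 3), ∃ r ∈ R, e.permCongr x = Equiv.sumCongr a r)
    (hcard : 3 * Nat.card R ≤ Nat.card N) : N.map e.permCongrHom.toMonoidHom = model R := by
  refine eq_of_le_of_card_ge (map_le_model hdec) ?_
  rw [card_map_of_injective (MulEquiv.injective _), card_model]
  exact hcard

theorem card_le_three_mul {α : Type} [Finite α] {N : Subgroup (Perm α)} {m : ℕ} {e : α ≃ Fin 3 ⊕ Fin m}
    {R : Subgroup (Perm (Fin m))}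
    (hdec : ∀ x ∈ N, ∃ a ∈ alternatingGroup (Fin 3), ∃ r ∈ R, e.permCongr x = Equiv.sumCongr a r) :
    Nat.card N ≤ 3 * Nat.card R := by
  rw [← card_model, ← card_map_of_injective (K := N) (f := e.permCongrHom.toMonoidHom)
    e.permCongrHom.injective]
  exact card_le_of_le (map_le_model hdec)

/-- The conjugating permutation. -/
def carrier {α : Type} {m : ℕ} (e₁ e₂ : α ≃ Fin 3 ⊕ Fin m) (s : Perm (Fin 3)) (h : Perm (Fin m)) :
    Perm α :=
  (e₁.trans (Equiv.sumCongr s h)).trans e₂.symm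

theorem map_conj_carrier {α : Type} {N₁ N₂ : Subgroup (Perm α)} {m : ℕ}
    {e₁ e₂ : α ≃ Fin 3 ⊕ Fin m} {R₁ R₂ : Subgroup (Perm (Fin m))}
    (h₁ : N₁.map e₁.permCongrHom.toMonoidHom = model R₁)
    (h₂ : N₂.map e₂.permCongrHom.toMonoidHom = model R₂) (s : Perm (Fin 3)) (h : Perm (Fin m))
    (hR : R₂ = R₁.map (MulAut.conj h).toMonoidHom) :
    N₂ = N₁.map (MulAut.conj (carrier e₁ e₂ s h)).toMonoidHom := by
  apply map_injective (f := e₂.permCongrHom.toMonoidHom) e₂.permCongrHom.injective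
  set σ := Equiv.sumCongr s h with hσ
  have key : ∀ x : Perm α, e₂.permCongrHom (MulAut.conj (carrier e₁ e₂ s h) x) =
      MulAut.conj σ (e₁.permCongrHom x) := fun x => by
    ext u
    simp [carrier, hσ, MulAut.conj_apply, Equiv.Perm.inv_def]
  rw [Subgroup.map_map, h₂, hR]
  have : N₁.map (e₂.permCongrHom.toMonoidHom.comp (MulAut.conj (carrier e₁ e₂ s h)).toMonoidHom) =
      (model R₁).map (MulAut.conj σ).toMonoidHom := by
    rw [← h₁, Subgroup.map_map]
    exact congrArg (fun φ => N₁.map φ) (MonoidHom.ext key)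
  rw [this]
  unfold model
  ext y
  constructor
  · rintro ⟨⟨a, r'⟩, har, rfl⟩
    obtain ⟨ha, r, hr, rfl⟩ := mem_prod.1 har
    refine ⟨Perm.sumCongrHom _ _ (s⁻¹ * a * s, r), ⟨(s⁻¹ * a * s, r), mem_prod.2 ⟨?_, hr⟩, rfl⟩, ?_⟩
    · simpa using (inferInstance : (alternatingGroup (Fin 3)).Normal).conj_mem a ha s⁻¹
    · show σ * _ * σ⁻¹ = _
      rw [hσ, show Equiv.sumCongr s h = Perm.sumCongrHom _ _ (s, h) from rfl, ← map_inv, ← map_mul,
        ← map_mul]
      congr 1
      exact Prod.ext (by simp [mul_assoc]) rfl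
  · rintro ⟨_, ⟨⟨a, r⟩, har, rfl⟩, rfl⟩
    obtain ⟨ha, hr⟩ := mem_prod.1 har
    refine ⟨(s * a * s⁻¹, h * r * h⁻¹),
      mem_prod.2 ⟨(inferInstance : (alternatingGroup (Fin 3)).Normal).conj_mem a ha s, r, hr, rfl⟩, ?_⟩
    show _ = σ * _ * σ⁻¹
    rw [hσ, show Equiv.sumCongr s h = Perm.sumCongrHom _ _ (s, h) from rfl, ← map_inv, ← map_mul,
      ← map_mul]
    rfl

theorem exists_even_carrier {α : Type} [Fintype α] [DecidableEq α] {m : ℕ}
    (e₁ e₂ : α ≃ Fin 3 ⊕ Fin m) (h : Perm (Fin m)) :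
    ∃ s, Perm.sign (carrier e₁ e₂ s h) = 1 := by
  rcases Int.units_eq_one_or (Perm.sign (carrier e₁ e₂ 1 h)) with h1 | h1
  · exact ⟨1, h1⟩
  refine ⟨Equiv.swap 0 1, ?_⟩
  have e : carrier e₁ e₂ (Equiv.swap 0 1) h =
      carrier e₁ e₂ 1 h * e₁.symm.permCongr (Equiv.sumCongr (Equiv.swap 0 1) (1 : Perm (Fin m))) := by
    ext x
    simp only [carrier, Perm.mul_apply, Equiv.permCongr_apply, Equiv.trans_apply, Equiv.symm_symm,
      Equiv.apply_symm_apply]
    rcases e₁ x with u | u <;> rfl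
  rw [e, map_mul, h1, Perm.sign_permCongr, Perm.sign_sumCongr, Perm.sign_swap (by decide), map_one]
  simp

/-- A cyclic group of order three as the alternating group of degree three. -/
noncomputable def threeEquiv : Multiplicative (ZMod 3) ≃* alternatingGroup (Fin 3) :=
  haveI : Fact (Nat.Prime 3) := ⟨Nat.prime_three⟩
  mulEquivOfPrimeCardEq (p := 3) ((Nat.card_congr Multiplicative.toAdd).trans (Nat.card_zmod 3))
    card_alt_three

/-- The embedding of `P × C₃`. -/
noncomputable def embed {m n : ℕ} (e : Fin 3 ⊕ Fin m ≃ Fin n) (R : Subgroup (Perm (Fin m))) :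
    ↥R × Multiplicative (ZMod 3) →* Perm (Fin n) :=
  e.permCongrHom.toMonoidHom.comp ((Perm.sumCongrHom (Fin 3) (Fin m)).comp
    ((((alternatingGroup (Fin 3)).subtype.comp
      threeEquiv.toMonoidHom).comp (MonoidHom.snd _ _)).prod
      (R.subtype.comp (MonoidHom.fst _ _))))

theorem embed_injective {m n : ℕ} (e : Fin 3 ⊕ Fin m ≃ Fin n) (R : Subgroup (Perm (Fin m))) :
    Function.Injective (embed e R) := by
  intro x y hxy
  have h := Perm.sumCongrHom_injective (e.permCongrHom.injective hxy)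
  exact Prod.ext (Subtype.ext (congrArg Prod.snd h))
    (threeEquiv.injective (Subtype.ext (congrArg Prod.fst h)))

theorem sign_embed {m n : ℕ} (e : Fin 3 ⊕ Fin m ≃ Fin n) (R : Subgroup (Perm (Fin m)))
    (hR : R ≤ alternatingGroup (Fin m)) (x : ↥R × Multiplicative (ZMod 3)) :
    embed e R x ∈ alternatingGroup (Fin n) := by
  rw [Perm.mem_alternatingGroup]
  show Perm.sign (e.permCongr (Equiv.sumCongr (threeEquiv x.2 : Perm (Fin 3)) (x.1 : Perm (Fin m)))) = 1
  rw [Perm.sign_permCongr, Perm.sign_sumCongr, Perm.mem_alternatingGroup.1 (threeEquiv x.2).2,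
    Perm.mem_alternatingGroup.1 (hR x.1.2), one_mul]

theorem isNilpotent_prod_three {R : Type*} [Group R] [Finite R] (hR : IsPGroup 2 R) :
    Group.IsNilpotent (R × Multiplicative (ZMod 3)) := by
  haveI : Fact (Nat.Prime 2) := ⟨Nat.prime_two⟩
  haveI := hR.isNilpotent
  infer_instance

theorem sym_extremal (n : ℕ) (hn : n % 4 = 3) (P : Sylow 2 (Perm (Fin (n - 3)))) :
    (∀ N : Subgroup (Perm (Fin n)), Group.IsNilpotent N → Nat.card N ≤ 3 * Nat.card P) ∧
    (∃ M : Subgroup (Perm (Fin n)), Group.IsNilpotent M ∧ Nat.card M = 3 * Nat.card P ∧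
      Nonempty (M ≃* (↥(P : Subgroup (Perm (Fin (n - 3)))) × Multiplicative (ZMod 3)))) ∧
    (∀ N₁ N₂ : Subgroup (Perm (Fin n)), Group.IsNilpotent N₁ → Group.IsNilpotent N₂ →
      Nat.card N₁ = 3 * Nat.card P → Nat.card N₂ = 3 * Nat.card P →
      ∃ g : Perm (Fin n), N₂ = N₁.map (MulAut.conj g).toMonoidHom) := by
  haveI : Fact (Nat.Prime 2) := ⟨Nat.prime_two⟩
  have hg : g n = 3 * Nat.card P := by rw [g_of_three hn, card_sylow_sym]
  refine ⟨fun N hN => by have := card_le_g hN; rw [Nat.card_fin, hg] at this; exact this, ?_, ?_⟩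
  · let ψ := embed (finSumFinEquiv.trans (finCongr (show 3 + (n - 3) = n by omega)))
      (P : Subgroup (Perm (Fin (n - 3))))
    have hψ : Function.Injective ψ := embed_injective _ _
    haveI := isNilpotent_prod_three P.isPGroup'
    exact ⟨ψ.range, isNilpotent_range ψ, by
      rw [← Nat.card_congr (MonoidHom.ofInjective hψ).toEquiv, Nat.card_prod, mul_comm]; simp,
      ⟨(MonoidHom.ofInjective hψ).symm⟩⟩
  · have key : ∀ N : Subgroup (Perm (Fin n)), Group.IsNilpotent N → Nat.card N = 3 * Nat.card P →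
        ∃ (e : Fin n ≃ Fin 3 ⊕ Fin (n - 3)) (R : Sylow 2 (Perm (Fin (n - 3)))),
          N.map e.permCongrHom.toMonoidHom = model (R : Subgroup (Perm (Fin (n - 3)))) := by
      intro N hN hc
      have h2 : ¬ IsPGroup 2 N := fun h => by
        obtain ⟨j, hj⟩ := IsPGroup.iff_card.1 h
        exact absurd ((Nat.prime_dvd_prime_iff_eq Nat.prime_three Nat.prime_two).1
          (Nat.prime_three.dvd_of_dvd_pow (hj ▸ hc ▸ dvd_mul_right 3 _))) (by norm_num)
      have hS := ((sym_bound hN h2).2 (by rwa [Nat.card_fin])).2 (by rw [Nat.card_fin, hg, hc])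
      obtain ⟨m, e, R, hR, hdec, -⟩ := hS
      have hm : m = n - 3 := by
        have := Nat.card_congr e
        simp at this; omega
      subst hm
      have h1 := card_le_three_mul hdec
      have h2 := card_le_f hR
      rw [Nat.card_fin] at h2
      have hP := card_sylow_sym _ P
      have heq : Nat.card R = Nat.card P := by omega
      refine ⟨e, Sylow.ofCard R (by rw [heq, P.card_eq_multiplicity]), ?_⟩
      rw [Sylow.coe_ofCard]
      exact map_eq_model hdec (by omega)
    intro N₁ N₂ hN₁ hN₂ hc₁ hc₂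
    obtain ⟨e₁, R₁, h₁⟩ := key N₁ hN₁ hc₁
    obtain ⟨e₂, R₂, h₂⟩ := key N₂ hN₂ hc₂
    obtain ⟨h, hh⟩ := MulAction.exists_smul_eq (Perm (Fin (n - 3))) R₁ R₂
    exact ⟨_, map_conj_carrier h₁ h₂ 1 h (by rw [← hh]; rfl)⟩

theorem alt_extremal (n : ℕ) (hn : n % 4 = 3) (h7 : 7 ≤ n)
    (P : Sylow 2 (alternatingGroup (Fin (n - 3)))) :
    (∀ N : Subgroup (alternatingGroup (Fin n)), Group.IsNilpotent N → Nat.card N ≤ 3 * Nat.card P) ∧
    (∃ M : Subgroup (alternatingGroup (Fin n)), Group.IsNilpotent M ∧ Nat.card M = 3 * Nat.card P ∧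
      Nonempty (M ≃* (↥(P : Subgroup (alternatingGroup (Fin (n - 3)))) × Multiplicative (ZMod 3)))) ∧
    (∀ N₁ N₂ : Subgroup (alternatingGroup (Fin n)), Group.IsNilpotent N₁ → Group.IsNilpotent N₂ →
      Nat.card N₁ = 3 * Nat.card P → Nat.card N₂ = 3 * Nat.card P →
      ∃ g : alternatingGroup (Fin n), N₂ = N₁.map (MulAut.conj g).toMonoidHom) := by
  haveI : Fact (Nat.Prime 2) := ⟨Nat.prime_two⟩
  have hP := card_sylow_alt (m := n - 3) (by omega) P
  have hg : g n = 2 * (3 * Nat.card P) := by rw [g_of_three hn]; omega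
  have hb' : hb n = g n := hb_of_regular (by omega) (by omega) (by omega) (by omega)
  have hPpos : 0 < Nat.card P := Nat.card_pos
  have heven : ∀ (N : Subgroup (alternatingGroup (Fin n))), ∀ x ∈ N.map (alternatingGroup (Fin n)).subtype,
      Perm.sign x = 1 := by
    rintro N _ ⟨x, -, rfl⟩; exact Perm.mem_alternatingGroup.1 x.2
  have hcard : ∀ (N : Subgroup (alternatingGroup (Fin n))),
      Nat.card ↥(N.map (alternatingGroup (Fin n)).subtype) = Nat.card N := fun N =>
    card_map_of_injective (subtype_injective _)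
  refine ⟨fun N hN => ?_, ?_, ?_⟩
  · have hN' := CfsgLib.Base.isNilpotent_map (alternatingGroup (Fin n)).subtype hN
    by_cases h2 : IsPGroup 2 N
    · have := two_mul_card_even_two_group (h2.map _) (heven N) (by rw [Nat.card_fin]; omega)
      rw [hcard, Nat.card_fin, f_sub_three hn] at this
      omega
    · have := (alt_bound hN' (heven N) fun h => h2 (h.of_equiv (N.equivMapOfInjective _ (subtype_injective _)).symm)).1
      rw [hcard, Nat.card_fin, hb', hg] at this
      omega
  · let R := (P : Subgroup (alternatingGroup (Fin (n - 3)))).map (alternatingGroup (Fin (n - 3))).subtype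
    let ψ₀ := embed (finSumFinEquiv.trans (finCongr (show 3 + (n - 3) = n by omega))) R
    let ε := (P : Subgroup (alternatingGroup (Fin (n - 3)))).equivMapOfInjective _
      (subtype_injective (alternatingGroup (Fin (n - 3))))
    let ψ : ↥(P : Subgroup (alternatingGroup (Fin (n - 3)))) × Multiplicative (ZMod 3) →*
        alternatingGroup (Fin n) :=
      (ψ₀.comp (ε.prodCongr (MulEquiv.refl _)).toMonoidHom).codRestrict _ fun x =>
        sign_embed _ R (map_subtype_le _) _
    have hψ : Function.Injective ψ := fun x y h =>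
      (ε.prodCongr (MulEquiv.refl _)).injective (embed_injective _ _ (congrArg Subtype.val h))
    haveI := isNilpotent_prod_three P.isPGroup'
    exact ⟨ψ.range, isNilpotent_range ψ, by
      rw [← Nat.card_congr (MonoidHom.ofInjective hψ).toEquiv, Nat.card_prod, mul_comm]; simp,
      ⟨(MonoidHom.ofInjective hψ).symm⟩⟩
  · have key : ∀ N : Subgroup (alternatingGroup (Fin n)), Group.IsNilpotent N →
        Nat.card N = 3 * Nat.card P →
        ∃ (e : Fin n ≃ Fin 3 ⊕ Fin (n - 3)) (R : Sylow 2 (alternatingGroup (Fin (n - 3)))),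
          (N.map (alternatingGroup (Fin n)).subtype).map e.permCongrHom.toMonoidHom =
            model ((R : Subgroup (alternatingGroup (Fin (n - 3)))).map
              (alternatingGroup (Fin (n - 3))).subtype) := by
      intro N hN hc
      have hN' := CfsgLib.Base.isNilpotent_map (alternatingGroup (Fin n)).subtype hN
      have h2 : ¬ IsPGroup 2 N := fun h => by
        obtain ⟨j, hj⟩ := IsPGroup.iff_card.1 h
        exact absurd ((Nat.prime_dvd_prime_iff_eq Nat.prime_three Nat.prime_two).1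
          (Nat.prime_three.dvd_of_dvd_pow (hj ▸ hc ▸ dvd_mul_right 3 _))) (by norm_num)
      obtain ⟨m, e, R, hR, hdec, hsurj⟩ := (alt_bound hN' (heven N)
        fun h => h2 (h.of_equiv (N.equivMapOfInjective _ (subtype_injective _)).symm)).2.2
        (by rwa [Nat.card_fin]) (by rw [Nat.card_fin]; omega) (by rw [hcard, Nat.card_fin, hg, hc])
      have hm : m = n - 3 := by
        have := Nat.card_congr e
        simp at this; omega
      subst hm
      have hRle : R ≤ alternatingGroup (Fin (n - 3)) := fun r hr => by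
        obtain ⟨x, hx, a, ha, h⟩ := hsurj r hr
        have := congrArg Perm.sign h
        rw [Perm.sign_permCongr, heven N x hx, Perm.sign_sumCongr, Perm.mem_alternatingGroup.1 ha,
          one_mul] at this
        exact Perm.mem_alternatingGroup.2 this.symm
      set R' := R.subgroupOf (alternatingGroup (Fin (n - 3))) with hR'
      have hmap : R'.map (alternatingGroup (Fin (n - 3))).subtype = R := map_subgroupOf_eq_of_le hRle
      have hc' : Nat.card R = Nat.card R' := by rw [← hmap, card_map_of_injective (subtype_injective _)]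
      have h1 := card_le_three_mul hdec
      rw [hcard] at h1
      have h3 := two_mul_card_even_two_group hR (fun r hr => Perm.mem_alternatingGroup.1 (hRle hr))
        (by rw [Nat.card_fin]; omega)
      rw [Nat.card_fin] at h3
      have heq : Nat.card R' = Nat.card P := by omega
      refine ⟨e, Sylow.ofCard R' (by rw [heq, P.card_eq_multiplicity]), ?_⟩
      rw [Sylow.coe_ofCard, hmap]
      exact map_eq_model hdec (by rw [hcard]; omega)
    intro N₁ N₂ hN₁ hN₂ hc₁ hc₂
    obtain ⟨e₁, R₁, h₁⟩ := key N₁ hN₁ hc₁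
    obtain ⟨e₂, R₂, h₂⟩ := key N₂ hN₂ hc₂
    obtain ⟨h, hh⟩ := MulAction.exists_smul_eq (alternatingGroup (Fin (n - 3))) R₁ R₂
    obtain ⟨s, hs⟩ := exists_even_carrier e₁ e₂ (h : Perm (Fin (n - 3)))
    refine ⟨⟨_, Perm.mem_alternatingGroup.2 hs⟩, map_injective (subtype_injective _) ?_⟩
    rw [map_conj_carrier h₁ h₂ s (h : Perm (Fin (n - 3))) ?_, Subgroup.map_map, Subgroup.map_map]
    · rfl
    · rw [← hh, Subgroup.map_map]
      show ((R₁ : Subgroup (alternatingGroup (Fin (n - 3)))).map (MulAut.conj h).toMonoidHom).map _ = _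
      rw [Subgroup.map_map]
      rfl

end CfsgLib.KnownA.NilpotentPerm
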