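import Mathlib

/-!
# The 2-part of `n!` and the bounds for nilpotent permutation groups
-/

set_option autoImplicit false

namespace CfsgLib.KnownA.NilpotentPerm

open Nat hiding pow_succ' pow_succ pow_mul pow_zero

/-- The exponent of two in `n!`. -/
def v (n : ℕ) : ℕ := (n !).factorization 2

/-- The order of a Sylow 2-subgroup of the symmetric group of degree `n`. -/
def f (n : ℕ) : ℕ := 2 ^ v n

/-- The largest order of a nilpotent permutation group of degree `n`. -/
def g (n : ℕ) : ℕ := if n % 4 = 3 then 3 * f (n - 3) else f n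

theorem v_two_mul (a : ℕ) : v (2 * a) = v a + a := factorization_factorial_mul prime_two

theorem v_two_mul_add_one (a : ℕ) : v (2 * a + 1) = v (2 * a) := by
  unfold v
  rw [factorial_succ, Nat.factorization_mul (succ_ne_zero _) (factorial_ne_zero _), Finsupp.add_apply,
    factorization_eq_zero_of_not_dvd (by omega), zero_add]

theorem v_le (n : ℕ) : v n ≤ n := by
  simpa [v] using factorization_factorial_le_div_pred prime_two n

theorem v_zero : v 0 = 0 := by simp [v]

theorem v_one : v 1 = 0 := by simp [v]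

theorem v_add_le (a b : ℕ) : v a + v b ≤ v (a + b) := by
  have h := factorial_mul_factorial_dvd_factorial_add a b
  have := (factorization_le_iff_dvd (mul_ne_zero (factorial_ne_zero a) (factorial_ne_zero b))
    (factorial_ne_zero _)).2 h 2
  rwa [Nat.factorization_mul (factorial_ne_zero a) (factorial_ne_zero b), Finsupp.add_apply] at this

theorem v_mono {a b : ℕ} (h : a ≤ b) : v a ≤ v b := by
  have := v_add_le a (b - a)
  rw [Nat.add_sub_cancel' h] at this
  omega

theorem v_odd_add {a b : ℕ} (ha : a % 2 = 1) (hb : b % 2 = 1) : v a + v b + 1 ≤ v (a + b) := by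
  obtain ⟨x, rfl⟩ : ∃ x, a = 2 * x + 1 := ⟨a / 2, by omega⟩
  obtain ⟨y, rfl⟩ : ∃ y, b = 2 * y + 1 := ⟨b / 2, by omega⟩
  rw [v_two_mul_add_one, v_two_mul_add_one, show 2 * x + 1 + (2 * y + 1) = 2 * (x + y + 1) by ring,
    v_two_mul, v_two_mul, v_two_mul]
  have := v_add_le x y
  have := v_mono (show x + y ≤ x + y + 1 by omega)
  omega

theorem v_carry {a b : ℕ} (h : 4 ≤ a % 4 + b % 4) : v a + v b + 1 ≤ v (a + b) := by
  by_cases ho : a % 2 = 1 ∧ b % 2 = 1
  · exact v_odd_add ho.1 ho.2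
  obtain ⟨x, i, hi, rfl⟩ : ∃ x i, i < 2 ∧ a = 2 * x + i := ⟨a / 2, a % 2, by omega, by omega⟩
  obtain ⟨y, j, hj, rfl⟩ : ∃ y j, j < 2 ∧ b = 2 * y + j := ⟨b / 2, b % 2, by omega, by omega⟩
  have := v_odd_add (a := x) (b := y) (by omega) (by omega)
  have := v_mono (show 2 * (x + y) ≤ 2 * x + i + (2 * y + j) by omega)
  rw [v_two_mul] at this
  interval_cases i <;> interval_cases j <;> simp only [v_two_mul_add_one, v_two_mul, add_zero] at * <;>
    omega

theorem v_carry_two {a b : ℕ} (ha : a % 4 = 3) (hb : b % 4 = 3) : v a + v b + 2 ≤ v (a + b) := by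
  obtain ⟨x, rfl⟩ : ∃ x, a = 2 * x + 1 := ⟨a / 2, by omega⟩
  obtain ⟨y, rfl⟩ : ∃ y, b = 2 * y + 1 := ⟨b / 2, by omega⟩
  rw [v_two_mul_add_one, v_two_mul_add_one, show 2 * x + 1 + (2 * y + 1) = 2 * (x + y + 1) by ring,
    v_two_mul, v_two_mul, v_two_mul]
  have := v_odd_add (a := x) (b := y) (by omega) (by omega)
  have := v_mono (show x + y ≤ x + y + 1 by omega)
  omega

theorem v_sub_three {n : ℕ} (h : n % 4 = 3) : v n = v (n - 3) + 1 := by
  obtain ⟨j, rfl⟩ : ∃ j, n = 4 * j + 3 := ⟨n / 4, by omega⟩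
  rw [show 4 * j + 3 = 2 * (2 * j + 1) + 1 by ring, show 2 * (2 * j + 1) + 1 - 3 = 2 * (2 * j) by omega,
    v_two_mul_add_one, v_two_mul, v_two_mul, v_two_mul_add_one, v_two_mul]
  omega

theorem f_pos (n : ℕ) : 0 < f n := Nat.two_pow_pos _

theorem f_zero : f 0 = 1 := by rw [f, v_zero, pow_zero]

theorem f_one : f 1 = 1 := by rw [f, v_one, pow_zero]

theorem f_mono {a b : ℕ} (h : a ≤ b) : f a ≤ f b := Nat.pow_le_pow_right two_pos (v_mono h)

theorem f_mul_le (a b : ℕ) : f a * f b ≤ f (a + b) := by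
  rw [f, f, f, ← pow_add]; exact Nat.pow_le_pow_right two_pos (v_add_le a b)

theorem f_odd_add {a b : ℕ} (ha : a % 2 = 1) (hb : b % 2 = 1) : 2 * (f a * f b) ≤ f (a + b) := by
  rw [f, f, f, ← pow_add, ← pow_succ']; exact Nat.pow_le_pow_right two_pos (v_odd_add ha hb)

theorem f_carry {a b : ℕ} (h : 4 ≤ a % 4 + b % 4) : 2 * (f a * f b) ≤ f (a + b) := by
  rw [f, f, f, ← pow_add, ← pow_succ']; exact Nat.pow_le_pow_right two_pos (v_carry h)

theorem f_carry_two {a b : ℕ} (ha : a % 4 = 3) (hb : b % 4 = 3) : 4 * (f a * f b) ≤ f (a + b) := by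
  rw [f, f, f, ← pow_add, show (4 : ℕ) = 2 ^ 2 from rfl, ← pow_add]
  exact Nat.pow_le_pow_right two_pos (by have := v_carry_two ha hb; omega)

theorem f_sub_three {n : ℕ} (h : n % 4 = 3) : f n = 2 * f (n - 3) := by
  rw [f, f, v_sub_three h, pow_succ']

theorem f_two_mul (a : ℕ) : f (2 * a) = f a * 2 ^ a := by rw [f, f, v_two_mul, pow_add]

theorem f_two_mul_add_one (a : ℕ) : f (2 * a + 1) = f (2 * a) := by rw [f, f, v_two_mul_add_one]

theorem f_le_g (n : ℕ) : f n ≤ g n := by
  unfold g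
  split_ifs with h
  · rw [f_sub_three h]; have := f_pos (n - 3); omega
  · exact le_rfl

theorem g_of_three {n : ℕ} (h : n % 4 = 3) : g n = 3 * f (n - 3) := if_pos h

theorem g_of_ne {n : ℕ} (h : n % 4 ≠ 3) : g n = f n := if_neg h

theorem two_mul_g_le (n : ℕ) : 2 * g n ≤ 3 * f n := by
  unfold g
  split_ifs with h
  · rw [f_sub_three h]; omega
  · omega

theorem g_pos (n : ℕ) : 0 < g n := (f_pos n).trans_le (f_le_g n)

theorem g_mul_le (a b : ℕ) : g a * g b ≤ g (a + b) := by
  have key : ∀ x y, x % 4 = 3 → y % 4 ≠ 3 → g x * g y ≤ g (x + y) := by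
    intro x y hx hy
    rw [g_of_three hx, g_of_ne hy]
    by_cases h : (x + y) % 4 = 3
    · rw [g_of_three h, show x + y - 3 = (x - 3) + y by omega]
      have := f_mul_le (x - 3) y
      rw [mul_assoc]; omega
    · rw [g_of_ne h]
      have h2 := f_carry (a := x) (b := y) (by omega)
      rw [f_sub_three hx] at h2
      have h3 : 0 ≤ f (x - 3) * f y := Nat.zero_le _
      rw [mul_assoc] at h2 ⊢
      omega
  by_cases ha : a % 4 = 3
  · by_cases hb : b % 4 = 3
    · rw [g_of_three ha, g_of_three hb]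
      refine le_trans ?_ (f_le_g _)
      have h2 := f_carry_two ha hb
      rw [f_sub_three ha, f_sub_three hb,
        show 2 * f (a - 3) * (2 * f (b - 3)) = 4 * (f (a - 3) * f (b - 3)) by ring] at h2
      rw [show 3 * f (a - 3) * (3 * f (b - 3)) = 9 * (f (a - 3) * f (b - 3)) by ring]
      omega
    · exact key a b ha hb
  · by_cases hb : b % 4 = 3
    · rw [mul_comm, add_comm]; exact key b a hb ha
    · rw [g_of_ne ha, g_of_ne hb]
      exact (f_mul_le a b).trans (f_le_g _)

/-- `2 · 3 ^ k` is small compared with `f (2 * k)`. -/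
theorem two_mul_three_pow_lt (k : ℕ) (hk : 8 ≤ k) : 2 * 3 ^ k < f (2 * k) := by
  suffices h : 2 * 3 ^ k < 2 ^ (k + v k) by rwa [f_two_mul, f, ← pow_add, Nat.add_comm (v k) k]
  induction k using Nat.strong_induction_on with
  | _ k ih =>
  by_cases h16 : k < 16
  · have e : ∀ m, v (2 * m) = v m + m := v_two_mul
    have o : ∀ m, v (2 * m + 1) = v (2 * m) := v_two_mul_add_one
    have h1 := v_one
    have h2 : v 2 = 1 := (e 1).trans (by rw [h1])
    have h3 : v 3 = 1 := (o 1).trans h2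
    have h4 : v 4 = 3 := (e 2).trans (by rw [h2])
    have h5 : v 5 = 3 := (o 2).trans h4
    have h6 : v 6 = 4 := (e 3).trans (by rw [h3])
    have h7 : v 7 = 4 := (o 3).trans h6
    have h8 : v 8 = 7 := (e 4).trans (by rw [h4])
    have h9 : v 9 = 7 := (o 4).trans h8
    have h10 : v 10 = 8 := (e 5).trans (by rw [h5])
    have h11 : v 11 = 8 := (o 5).trans h10
    have h12 : v 12 = 10 := (e 6).trans (by rw [h6])
    have h13 : v 13 = 10 := (o 6).trans h12
    have h14 : v 14 = 11 := (e 7).trans (by rw [h7])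
    have h15 : v 15 = 11 := (o 7).trans h14
    interval_cases k <;> norm_num [h8, h9, h10, h11, h12, h13, h14, h15]
  obtain ⟨j, i, hi, rfl⟩ : ∃ j i, i < 2 ∧ k = 2 * j + i := ⟨k / 2, k % 2, by omega, by omega⟩
  have h := ih j (by omega) (by omega)
  have hsq : 4 * 9 ^ j < 2 ^ (2 * j + 2 * v j) := by
    have := Nat.mul_self_lt_mul_self h
    rw [← pow_add, show 2 * 3 ^ j * (2 * 3 ^ j) = 4 * 9 ^ j by
      rw [show (9 : ℕ) = 3 * 3 from rfl, mul_pow]; ring] at this
    exact this.trans_le (le_of_eq (by ring_nf))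
  have hv := v_le j
  have e : (3 : ℕ) ^ (2 * j) = 9 ^ j := by rw [pow_mul]; norm_num
  interval_cases i
  · have h1 : 2 ^ (2 * j + 2 * v j) ≤ 2 * 2 ^ (2 * j + v (2 * j)) := by
      rw [← pow_succ']; exact Nat.pow_le_pow_right two_pos (by rw [v_two_mul]; omega)
    rw [add_zero, e]
    omega
  · have h1 : 2 ^ (2 * j + 2 * v j) ≤ 2 ^ (2 * j + 1 + v (2 * j + 1)) / 2 := by
      rw [Nat.le_div_iff_mul_le two_pos, ← pow_succ]
      exact Nat.pow_le_pow_right two_pos (by rw [v_two_mul_add_one, v_two_mul]; omega)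
    rw [pow_succ, e]
    omega

end CfsgLib.KnownA.NilpotentPerm
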