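import Cfsg.Agent.Lib.KnownA.NilpotentPerm.Decomp
import Cfsg.Agent.Lib.KnownA.NilpotentPerm.Valuation

/-!
# Bounds for transitive nilpotent permutation groups
-/

set_option autoImplicit false
set_option linter.style.haveILetI false

namespace CfsgLib.KnownA.NilpotentPerm

open Equiv Subgroup

theorem card_dvd_factorial {β : Type} [Finite β] (P : Subgroup (Perm β)) :
    Nat.card P ∣ (Nat.card β).factorial :=
  Nat.card_perm (α := β) ▸ card_subgroup_dvd_card P

theorem card_le_f {β : Type} [Finite β] {P : Subgroup (Perm β)} (hP : IsPGroup 2 P) :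
    Nat.card P ≤ f (Nat.card β) := by
  haveI : Fact (Nat.Prime 2) := ⟨Nat.prime_two⟩
  obtain ⟨j, hj⟩ := IsPGroup.iff_card.1 hP
  rw [hj]
  refine Nat.pow_le_pow_right two_pos ?_
  have h := (Nat.factorization_le_iff_dvd (by positivity) (Nat.factorial_ne_zero _)).2
    (hj ▸ card_dvd_factorial P) 2
  rwa [Nat.prime_two.factorization_pow, Finsupp.single_eq_same] at h

theorem card_eq_one_of_one {β : Type} [Finite β] {P : Subgroup (Perm β)} (h : Nat.card β ≤ 1) :
    Nat.card P = 1 :=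
  Nat.dvd_one.1 ((Nat.factorial_eq_one.2 h) ▸ card_dvd_factorial P)

theorem odd_prime_sq_le {p : ℕ} (h : 3 ≤ p) : p ^ 2 ≤ 3 ^ (p - 1) := by
  induction p, h using Nat.le_induction with
  | base => norm_num
  | succ p hp ih =>
    rw [show p + 1 - 1 = (p - 1) + 1 by omega, pow_succ 3]
    nlinarith

/-- Nilpotent permutation groups of odd order have order at most `3 ^ ((n - 1) / 2)`. -/
theorem odd_bound {α : Type} [Finite α] {N : Subgroup (Perm α)} (hN : Group.IsNilpotent N)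
    (hodd : Odd (Nat.card N)) :
    Nat.card N ^ 2 ≤ 3 ^ Nat.card α ∧ (0 < Nat.card α → 3 * Nat.card N ^ 2 ≤ 3 ^ Nat.card α) := by
  suffices key : ∀ n, ∀ (α : Type) [Finite α], Nat.card α = n → ∀ N : Subgroup (Perm α),
      Group.IsNilpotent N → Odd (Nat.card N) →
      Nat.card N ^ 2 ≤ 3 ^ n ∧ (0 < n → 3 * Nat.card N ^ 2 ≤ 3 ^ n) from
    key _ α rfl N hN hodd
  intro n
  induction n using Nat.strong_induction_on with
  | _ n ih =>
  intro α _ hn N hN hodd
  by_cases h2 : IsPGroup 2 N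
  · haveI : Fact (Nat.Prime 2) := ⟨Nat.prime_two⟩
    obtain ⟨j, hj⟩ := IsPGroup.iff_card.1 h2
    have h1 : Nat.card N = 1 := by
      rcases j with _ | j
      · simpa using hj
      · exact absurd (hj ▸ hodd) (Nat.not_odd_iff_even.2 ⟨2 ^ j, by rw [pow_succ]; ring⟩)
    rw [h1]
    refine ⟨by simpa using Nat.one_le_pow _ 3 (by norm_num), fun hpos => ?_⟩
    simpa using Nat.pow_le_pow_right (show 0 < 3 by norm_num) hpos
  obtain ⟨β, γ, _, _, P, R, e, hP, hβ, hP2, hR, hle, hPd, hRd, -, -⟩ := exists_orbit_split hN h2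
  have hPodd : Odd (Nat.card P) := hodd.of_dvd_nat hPd
  have hoγ : n = Nat.card β + Nat.card γ := by rw [← hn, Nat.card_congr e, Nat.card_sum]
  have hβpos : 0 < Nat.card β := Nat.card_pos
  have hR' : Nat.card R ^ 2 ≤ 3 ^ Nat.card γ :=
    (ih _ (by omega) γ rfl R hR (hodd.of_dvd_nat hRd)).1
  have hP' : 3 * Nat.card P ^ 2 ≤ 3 ^ Nat.card β := by
    obtain ⟨x₀⟩ := hβ
    have hne : P ≠ ⊥ := fun e' => hP2 (e' ▸ IsPGroup.of_bot)
    obtain ⟨p, δ, _, _, I, hp, hpd, hI, hId, hcard, hPle⟩ := exists_central_step hP x₀ hne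
    have hp3 : 3 ≤ p := by
      have := hp.two_le
      rcases Nat.lt_or_ge p 3 with h | h
      · have hp2 : p = 2 := by omega
        exact absurd (hp2 ▸ hpd) (Nat.two_dvd_ne_zero.2 (Nat.odd_iff.1 hPodd))
      · exact h
    have hδpos : 0 < Nat.card δ := Nat.card_pos
    have hlt : Nat.card δ < n := by
      have : Nat.card δ * 2 ≤ p * Nat.card δ := by rw [mul_comm]; exact Nat.mul_le_mul_right _ (by omega)
      omega
    have hI' := (ih _ hlt δ rfl I hI.nil (hPodd.of_dvd_nat hId)).2 hδpos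
    calc 3 * Nat.card P ^ 2 ≤ 3 * (p ^ Nat.card δ * Nat.card I) ^ 2 :=
          Nat.mul_le_mul_left _ (Nat.pow_le_pow_left hPle 2)
      _ = (p ^ 2) ^ Nat.card δ * (3 * Nat.card I ^ 2) := by ring
      _ ≤ (3 ^ (p - 1)) ^ Nat.card δ * 3 ^ Nat.card δ :=
          Nat.mul_le_mul (Nat.pow_le_pow_left (odd_prime_sq_le hp3) _) hI'
      _ = 3 ^ Nat.card β := by
          rw [← mul_pow, ← pow_succ, ← pow_mul, hcard]
          congr 1
          rw [Nat.sub_add_cancel (by omega)]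
  have hmain : 3 * Nat.card N ^ 2 ≤ 3 ^ n := by
    calc 3 * Nat.card N ^ 2 ≤ 3 * (Nat.card P * Nat.card R) ^ 2 :=
          Nat.mul_le_mul_left _ (Nat.pow_le_pow_left hle 2)
      _ = (3 * Nat.card P ^ 2) * Nat.card R ^ 2 := by ring
      _ ≤ 3 ^ Nat.card β * 3 ^ Nat.card γ := Nat.mul_le_mul hP' hR'
      _ = 3 ^ n := by rw [← pow_add, hoγ]
  exact ⟨by omega, fun _ => hmain⟩

theorem prime_degree {β : Type} [Finite β] {P : Subgroup (Perm β)} (hP : NilTrans P)
    (hd : (Nat.card β).Prime) : Nat.card P ≤ Nat.card β := by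
  by_cases hne : P = ⊥
  · rw [hne, card_bot]; exact hd.one_le
  obtain ⟨x₀⟩ : Nonempty β := (Nat.card_pos_iff.1 hd.pos).1
  obtain ⟨p, δ, _, _, I, hp, -, -, -, hcard, hPle⟩ := exists_central_step hP x₀ hne
  rcases hd.eq_one_or_self_of_dvd p ⟨_, hcard⟩ with h | h
  · exact absurd h hp.one_lt.ne'
  have hδ : Nat.card δ = 1 := by
    have := hd.pos
    rw [h] at hcard
    exact (Nat.mul_eq_left this.ne').1 hcard.symm
  rw [hδ, pow_one, card_eq_one_of_one hδ.le, mul_one, h] at hPle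
  exact hPle

theorem f_values : f 2 = 2 ∧ f 3 = 2 ∧ f 4 = 8 ∧ f 5 = 8 ∧ f 6 = 16 ∧ f 7 = 16 ∧ f 8 = 128 ∧ f 9 = 128 ∧
    f 10 = 256 ∧ f 11 = 256 ∧ f 12 = 1024 ∧ f 13 = 1024 ∧ f 14 = 2048 ∧ f 15 = 2048 ∧ f 18 = 65536 := by
  have e : ∀ m, f (2 * m) = f m * 2 ^ m := f_two_mul
  have o : ∀ m, f (2 * m + 1) = f (2 * m) := f_two_mul_add_one
  have h2 : f 2 = 2 := (e 1).trans (by rw [f_one]; rfl)
  have h4 : f 4 = 8 := (e 2).trans (by rw [h2]; rfl)
  have h3 : f 3 = 2 := (o 1).trans h2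
  have h6 : f 6 = 16 := (e 3).trans (by rw [h3]; rfl)
  have h5 : f 5 = 8 := (o 2).trans h4
  have h7 : f 7 = 16 := (o 3).trans h6
  have h9 : f 9 = 128 := (o 4).trans ((e 4).trans (by rw [h4]; rfl))
  exact ⟨h2, h3, h4, h5, h6, h7, (e 4).trans (by rw [h4]; rfl), h9,
    (e 5).trans (by rw [h5]; rfl), (o 5).trans ((e 5).trans (by rw [h5]; rfl)),
    (e 6).trans (by rw [h6]; rfl), (o 6).trans ((e 6).trans (by rw [h6]; rfl)),
    (e 7).trans (by rw [h7]; rfl), (o 7).trans ((e 7).trans (by rw [h7]; rfl)),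
    (e 9).trans (by rw [h9]; rfl)⟩

theorem card_fifteen {β : Type} [Finite β] {P : Subgroup (Perm β)} (hP : NilTrans P)
    (hd : Nat.card β = 15) : Nat.card P ≤ 15 := by
  obtain ⟨x₀⟩ : Nonempty β := (Nat.card_pos_iff.1 (by omega)).1
  haveI : Fact (Nat.Prime 3) := ⟨Nat.prime_three⟩
  obtain ⟨δ, ε, _, _, A, B, hA, hB, hA3, hB3, hcard, hdeg, ⟨y⟩, ⟨z⟩⟩ := exists_split hP x₀ 3
  rw [hd] at hdeg
  have hεd := card_dvd_of_trans hB.trans z
  have hδd := card_dvd_of_trans hA.trans y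
  have hε3 : ¬ 3 ∣ Nat.card ε := fun h =>
    Nat.prime_three.coprime_iff_not_dvd.1 hB3.symm (h.trans hεd)
  obtain ⟨j, hj⟩ := IsPGroup.iff_card.1 hA3
  obtain ⟨i, -, hi⟩ := (Nat.dvd_prime_pow Nat.prime_three).1 (hj ▸ hδd)
  have hε15 : Nat.card ε ∣ 15 := ⟨_, by rw [mul_comm]; exact hdeg⟩
  have h35 : Nat.card δ = 3 ∧ Nat.card ε = 5 := by
    have hle := Nat.le_of_dvd (by norm_num) hε15
    have hne : Nat.card ε ≠ 1 := fun h1 => by
      rw [h1, mul_one] at hdeg
      have : (5 : ℕ) ∣ 3 ^ i := ⟨3, by rw [← hi, ← hdeg]⟩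
      exact absurd ((Nat.prime_dvd_prime_iff_eq (by norm_num) Nat.prime_three).1
        ((by norm_num : (5 : ℕ).Prime).dvd_of_dvd_pow this)) (by norm_num)
    interval_cases hε : Nat.card ε <;> omega
  have h1 := prime_degree hA (by rw [h35.1]; norm_num)
  have h2 := prime_degree hB (by rw [h35.2]; norm_num)
  rw [h35.1] at h1
  rw [h35.2] at h2
  rw [hcard]
  exact Nat.mul_le_mul h1 h2

/-- Bounds for transitive nilpotent groups of odd order on at least five points. -/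
theorem trans_odd {β : Type} [Finite β] {P : Subgroup (Perm β)} (hP : NilTrans P)
    (hodd : Odd (Nat.card P)) (hd : 5 ≤ Nat.card β) :
    Nat.card P < f (Nat.card β) ∧ (Nat.card β ≠ 5 → Nat.card β ≠ 9 → 2 * Nat.card P < f (Nat.card β)) ∧
      (Nat.card β = 5 → Nat.card P ≤ 5) ∧ (Nat.card β = 9 → Nat.card P ≤ 81) := by
  obtain ⟨x₀⟩ : Nonempty β := (Nat.card_pos_iff.1 (by omega)).1
  obtain ⟨k, hk⟩ := hodd.of_dvd_nat (card_dvd_of_trans hP.trans x₀)
  have h3 := (odd_bound hP.nil hodd).2 (by omega)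
  have hsq : Nat.card P ≤ 3 ^ k := by
    rw [hk, pow_succ 3 (2 * k)] at h3
    have : Nat.card P ^ 2 ≤ (3 ^ k) ^ 2 := by rw [← pow_mul, mul_comm k 2]; omega
    exact (Nat.pow_le_pow_iff_left two_ne_zero).1 this
  obtain ⟨-, -, -, f5, -, f7, -, f9, -, f11, -, f13, -, f15, -⟩ := f_values
  by_cases hk8 : 8 ≤ k
  · have := two_mul_three_pow_lt k hk8
    rw [hk, f_two_mul_add_one]
    refine ⟨by omega, fun _ _ => by omega, by omega, by omega⟩
  have hprime := prime_degree hP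
  have h15 := card_fifteen hP
  rw [hk] at hd hprime h15 ⊢
  interval_cases k <;> norm_num [f5, f7, f9, f11, f13, f15] at hsq hprime h15 ⊢ <;> omega

/-- Bounds for transitive nilpotent groups which are not 2-groups. -/
theorem trans_bound {β : Type} [Finite β] {P : Subgroup (Perm β)} (hP : NilTrans P) (x₀ : β)
    (h2 : ¬ IsPGroup 2 P) :
    (Nat.card β ≠ 3 → Nat.card P < f (Nat.card β)) ∧
      (Nat.card β ≠ 3 → Nat.card β ≠ 5 → Nat.card β ≠ 9 → 2 * Nat.card P < f (Nat.card β)) ∧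
      (Nat.card β = 3 → Nat.card P ≤ 3) ∧ (Nat.card β = 5 → Nat.card P ≤ 5) ∧
      (Nat.card β = 9 → Nat.card P ≤ 81) ∧
      ((Nat.card β = 3 ∨ Nat.card β = 5 ∨ Nat.card β = 9) → Odd (Nat.card P)) := by
  haveI : Fact (Nat.Prime 2) := ⟨Nat.prime_two⟩
  obtain ⟨δ, ε, _, _, A, B, hA, hB, hA2, hB2, hcard, hdeg, ⟨y⟩, ⟨z⟩⟩ := exists_split hP x₀ 2
  have hBodd : Odd (Nat.card B) := Nat.coprime_two_right.1 hB2
  have hεodd : Odd (Nat.card ε) := hBodd.of_dvd_nat (card_dvd_of_trans hB.trans z)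
  have hε3 : 3 ≤ Nat.card ε := by
    by_contra h
    have h1 : Nat.card ε = 1 := by obtain ⟨i, hi⟩ := hεodd; omega
    obtain ⟨j, hj⟩ := IsPGroup.iff_card.1 hA2
    exact h2 (IsPGroup.of_card (n := j) (by rw [hcard, hj, card_eq_one_of_one h1.le, mul_one]))
  have hB3 : Nat.card ε = 3 → Nat.card B ≤ 3 := fun h => by
    have := prime_degree hB (by rw [h]; norm_num)
    omega
  by_cases hδ1 : Nat.card δ = 1
  · rw [card_eq_one_of_one hδ1.le, one_mul] at hcard
    rw [hδ1, one_mul] at hdeg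
    rw [hdeg, hcard]
    by_cases h3 : Nat.card ε = 3
    · exact ⟨fun h => absurd h3 h, fun h => absurd h3 h, hB3, by omega, by omega, fun _ => hBodd⟩
    · obtain ⟨t1, t2, t3, t4⟩ := trans_odd hB hBodd (by obtain ⟨i, hi⟩ := hεodd; omega)
      exact ⟨fun _ => t1, fun _ => t2, fun h => absurd h h3, t3, t4, fun _ => hBodd⟩
  have hδ2 : 2 ≤ Nat.card δ := by
    haveI : Nonempty δ := ⟨y⟩
    have := (Nat.card_pos (α := δ)); omega
  have hδeven : 2 ∣ Nat.card δ := by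
    obtain ⟨j, hj⟩ := IsPGroup.iff_card.1 hA2
    obtain ⟨i, -, hi⟩ := (Nat.dvd_prime_pow Nat.prime_two).1 (hj ▸ card_dvd_of_trans hA.trans y)
    rcases i with _ | i
    · simp at hi; omega
    · exact hi ▸ dvd_pow_self 2 (Nat.succ_ne_zero i)
  have hAle := card_le_f hA2
  have hlt : 2 * Nat.card P < f (Nat.card β) := by
    rw [hcard, hdeg]
    have hfb : 2 ≤ f (Nat.card δ) := f_values.1 ▸ f_mono hδ2
    by_cases h3 : Nat.card ε = 3
    · have hB' := hB3 h3
      rw [h3, show Nat.card δ * 3 = 2 * Nat.card δ + Nat.card δ by ring]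
      have h1 := f_mul_le (2 * Nat.card δ) (Nat.card δ)
      rw [f_two_mul] at h1
      have h4 : 4 ≤ 2 ^ Nat.card δ := le_trans (by norm_num) (Nat.pow_le_pow_right two_pos hδ2)
      calc 2 * (Nat.card A * Nat.card B) ≤ f (Nat.card δ) * 6 := by
            have := Nat.mul_le_mul hAle hB'; linarith
        _ < f (Nat.card δ) * 8 := Nat.mul_lt_mul_of_pos_left (by norm_num) (f_pos _)
        _ ≤ f (Nat.card δ) * (2 ^ Nat.card δ * f (Nat.card δ)) :=
            Nat.mul_le_mul_left _ (Nat.mul_le_mul h4 hfb)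
        _ ≤ _ := by rw [← mul_assoc]; exact h1
    · have hε5 : 5 ≤ Nat.card ε := by obtain ⟨i, hi⟩ := hεodd; omega
      obtain ⟨t1, -⟩ := trans_odd hB hBodd hε5
      obtain ⟨i, hi⟩ := hεodd
      rw [hi] at t1 ⊢
      rw [f_two_mul_add_one] at t1
      have h1 := f_mul_le (Nat.card δ) (Nat.card δ * (2 * i))
      rw [show Nat.card δ + Nat.card δ * (2 * i) = Nat.card δ * (2 * i + 1) by ring] at h1
      have h5 : f (2 * i) * 2 ≤ f (Nat.card δ * (2 * i)) := by
        refine le_trans ?_ (f_mono (Nat.mul_le_mul_right (2 * i) hδ2))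
        rw [f_two_mul (2 * i)]
        exact Nat.mul_le_mul_left _ (Nat.le_self_pow (by omega) 2)
      calc 2 * (Nat.card A * Nat.card B) = Nat.card A * (Nat.card B * 2) := by ring
        _ < f (Nat.card δ) * (f (2 * i) * 2) :=
            Nat.mul_lt_mul_of_le_of_lt hAle (by omega) (f_pos _)
        _ ≤ f (Nat.card δ) * f (Nat.card δ * (2 * i)) := Nat.mul_le_mul_left _ h5
        _ ≤ _ := h1
  have heven : 2 ∣ Nat.card β := hdeg ▸ hδeven.mul_right _
  exact ⟨fun _ => by omega, fun _ _ _ => hlt, by omega, by omega, by omega, by omega⟩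

end CfsgLib.KnownA.NilpotentPerm
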